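import Cfsg.Agent.Lib.LargeExtra.Refinement
import Mathlib.GroupTheory.Transfer

/-!
# A transfer computation for groups with a large extraspecial 2-subgroup
-/

set_option autoImplicit false

namespace CfsgLib.LargeExtra

open MulAction

variable {G : Type*} [Group G] {z : G}

theorem coset_fixed_iff {e g : G} :
    e • (g : G ⧸ Subgroup.centralizer ({z} : Set G)) = (g : G ⧸ Subgroup.centralizer ({z} : Set G)) ↔
      g⁻¹ * e * g ∈ Subgroup.centralizer ({z} : Set G) := by
  rw [MulAction.Quotient.smul_coe, QuotientGroup.eq, smul_eq_mul, ← inv_mem_iff]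
  group

/-- The stabilizer in `E` of a point of `G/C(z)`. -/
def stab (z : G) (E : Subgroup G) (g : G) : Subgroup G :=
  E ⊓ stabilizer G (g : G ⧸ Subgroup.centralizer ({z} : Set G))

theorem mem_stab {E : Subgroup G} {g e : G} :
    e ∈ stab z E g ↔ e ∈ E ∧ g⁻¹ * e * g ∈ Subgroup.centralizer ({z} : Set G) := by
  rw [stab, Subgroup.mem_inf, mem_stabilizer_iff, coset_fixed_iff]

theorem stab_le {E : Subgroup G} (g : G) : stab z E g ≤ E := inf_le_left

theorem mem_stab_iff_commute {E : Subgroup G} {g e : G} :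
    e ∈ stab z E g ↔ e ∈ E ∧ e * (g * z * g⁻¹) = g * z * g⁻¹ * e := by
  rw [mem_stab, mem_centralizer_z]
  refine and_congr_right fun _ => ⟨fun h => ?_, fun h => ?_⟩
  · calc e * (g * z * g⁻¹) = g * (g⁻¹ * e * g * z) * g⁻¹ := by group
      _ = g * z * g⁻¹ * e := by rw [h]; group
  · calc g⁻¹ * e * g * z = g⁻¹ * (e * (g * z * g⁻¹)) * g := by group
      _ = z * (g⁻¹ * e * g) := by rw [h]; group

theorem orb_card_mul [Finite G] [Fintype (G ⧸ Subgroup.centralizer ({z} : Set G))] (E : Subgroup G)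
    (g : G) :
    (orb E (g : G ⧸ Subgroup.centralizer ({z} : Set G))).card * Nat.card (stab z E g) = Nat.card E := by
  have h1 : stabilizer E (g : G ⧸ Subgroup.centralizer ({z} : Set G)) = (stab z E g).subgroupOf E := by
    ext e
    simp only [stab, Subgroup.mem_subgroupOf, Subgroup.mem_inf, SetLike.coe_mem, true_and]
    rfl
  rw [card_orb_eq]
  erw [h1]
  rw [mul_comm]
  exact (congrArg (· * _) (Nat.card_congr (Subgroup.subgroupOfEquivOfLe (stab_le g)).toEquiv).symm).trans
    (Subgroup.card_mul_index _)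

open Classical in
/-- A chosen element of each orbit. -/
noncomputable def rep (E : Subgroup G) [Fintype (G ⧸ Subgroup.centralizer ({z} : Set G))]
    (B : Finset (G ⧸ Subgroup.centralizer ({z} : Set G))) : G :=
  if h : ∃ g : G, orb E (g : G ⧸ Subgroup.centralizer ({z} : Set G)) = B then h.choose else 1

theorem orb_rep [Fintype (G ⧸ Subgroup.centralizer ({z} : Set G))] (E : Subgroup G)
    (q : G ⧸ Subgroup.centralizer ({z} : Set G)) :
    orb E ((rep E (orb E q) : G) : G ⧸ Subgroup.centralizer ({z} : Set G)) = orb E q := by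
  have h : ∃ g : G, orb E (g : G ⧸ Subgroup.centralizer ({z} : Set G)) = orb E q :=
    ⟨q.out, by rw [QuotientGroup.out_eq']⟩
  rw [rep, dif_pos h]
  exact h.choose_spec

theorem orb_smul {E : Subgroup G} {X : Type*} [MulAction G X] [Fintype X] [DecidableEq X] {x : G}
    (hx : ∀ e ∈ E, x * e * x⁻¹ ∈ E) (hx' : ∀ e ∈ E, x⁻¹ * e * x ∈ E) (q : X) :
    orb E (x • q) = (orb E q).image (fun r => x • r) := by
  ext r
  simp only [mem_orb, Finset.mem_image]
  constructor
  · rintro ⟨a, ha, rfl⟩
    exact ⟨_, ⟨_, hx' a ha, rfl⟩, by simp only [← mul_smul]; congr 1; group⟩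
  · rintro ⟨_, ⟨a, ha, rfl⟩, rfl⟩
    exact ⟨_, hx a ha, by simp only [← mul_smul]; congr 1; group⟩

/-- The transfer of an index-two character of `C(z)` vanishes, and it is the value at `z` itself. -/
theorem psi_eq_zero [Finite G] {E : Subgroup G} [Fintype (G ⧸ Subgroup.centralizer ({z} : Set G))]
    (h : Setting z E) (hres : Cfsg.pResidual 2 G = ⊤) (ψ : G → ZMod 2)
    (hψ : ∀ a ∈ Subgroup.centralizer ({z} : Set G), ∀ b ∈ Subgroup.centralizer ({z} : Set G),
      ψ (a * b) = ψ a + ψ b)
    {x : G} (hx : x ∈ Subgroup.centralizer ({z} : Set G))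
    (h2 : ∀ g : G, (orb E (g : G ⧸ Subgroup.centralizer ({z} : Set G))).card = 2 →
      (∀ u ∈ stab z E g, ψ (g⁻¹ * u * g) = 0) ∨ (x ∈ E ∧ (z ∈ stab z E g → ψ (g⁻¹ * z * g) = 0)))
    (h4 : ∀ g : G, (orb E (g : G ⧸ Subgroup.centralizer ({z} : Set G))).card = 4 →
      x ∈ E ∨ (z ∈ stab z E g → ψ (g⁻¹ * z * g) = 0)) :
    ψ x = 0 := by
  classical
  have hψ1 : ψ 1 = 0 := by
    have := hψ 1 (Subgroup.one_mem _) 1 (Subgroup.one_mem _)
    rw [one_mul] at this
    linear_combination -this
  have hψinv : ∀ a ∈ (Subgroup.centralizer ({z} : Set G)), ψ a⁻¹ = ψ a := fun a ha => by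
    have := hψ a ha a⁻¹ (inv_mem ha)
    rw [mul_inv_cancel, hψ1] at this
    linear_combination -this + -zadd_self (ψ a)
  let Ψ : (Subgroup.centralizer ({z} : Set G)) →* Multiplicative (ZMod 2) :=
    MonoidHom.mk' (fun a => Multiplicative.ofAdd (ψ a)) fun a b => by
      rw [Subgroup.coe_mul, hψ a a.2 b b.2, ofAdd_add]
  -- the transfer is trivial
  have htriv : MonoidHom.transfer Ψ x = 1 := by
    have hk : (MonoidHom.transfer Ψ).ker = ⊤ := by
      rw [eq_top_iff, ← hres, Cfsg.pResidual, Subgroup.closure_le]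
      intro g hg
      rw [SetLike.mem_coe, MonoidHom.mem_ker]
      have hsq : MonoidHom.transfer Ψ g ^ 2 = 1 := by
        rw [← toAdd_eq_zero, toAdd_pow, two_nsmul, zadd_self]
      have h1 := orderOf_dvd_of_pow_eq_one hsq
      have h2 := orderOf_map_dvd (MonoidHom.transfer Ψ) g
      rw [← orderOf_eq_one_iff]
      exact Nat.eq_one_of_dvd_coprimes hg h2 h1
    exact MonoidHom.mem_ker.1 (hk ▸ Subgroup.mem_top x)
  have hsum0 : ∑ q : G ⧸ (Subgroup.centralizer ({z} : Set G)), ψ ((x • q).out⁻¹ * (x * q.out)) = 0 := by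
    let T : (Subgroup.centralizer ({z} : Set G)).LeftTransversal :=
      ⟨Set.range Quotient.out, Subgroup.isComplement_range_left fun q => Quotient.out_eq' q⟩
    have hT : ∀ q : G ⧸ (Subgroup.centralizer ({z} : Set G)), (T.2.leftQuotientEquiv q : G) = q.out := fun q =>
      Subgroup.IsComplement.leftQuotientEquiv_apply (fun q => Quotient.out_eq' q) q
    rw [MonoidHom.transfer_def Ψ T] at htriv
    have h' := congrArg Multiplicative.toAdd htriv
    simp only [Subgroup.leftTransversals.diff, toAdd_prod, toAdd_one] at h'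
    rw [← Equiv.sum_comp (MulAction.toPerm x⁻¹)]
    convert h' using 1
    refine Finset.sum_congr (Finset.ext fun _ => by simp) fun q _ => ?_
    show ψ ((x • x⁻¹ • q).out⁻¹ * (x * (x⁻¹ • q).out)) = ψ _
    refine congrArg ψ ?_
    simp only [Subgroup.smul_apply_eq_smul_apply_inv_smul, hT, hT, smul_inv_smul, smul_eq_mul]
  -- refinements
  have hφ : ∀ g : G, ∀ a ∈ stab z E g, ∀ b ∈ stab z E g,
      ψ (g⁻¹ * (a * b) * g) = ψ (g⁻¹ * a * g) + ψ (g⁻¹ * b * g) := fun g a ha b hb => by
    rw [← hψ _ (mem_stab.1 ha).2 _ (mem_stab.1 hb).2]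
    congr 1; group
  choose f β hR hf0 using fun g : G => exists_refines h (stab_le g) (φ := fun u => ψ (g⁻¹ * u * g)) (hφ g)
  have hr : ∀ q : G ⧸ (Subgroup.centralizer ({z} : Set G)), ∃ a ∈ E, a • ((rep E (orb E q) : G) : G ⧸ (Subgroup.centralizer ({z} : Set G))) = q := fun q => by
    have := self_mem_orb E q
    rw [← orb_rep E q, mem_orb] at this
    exact this
  let a₀ : G ⧸ (Subgroup.centralizer ({z} : Set G)) → G := fun q => (hr q).choose
  let P : G ⧸ (Subgroup.centralizer ({z} : Set G)) → ZMod 2 := fun q =>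
    f (rep E (orb E q)) (a₀ q) + ψ ((a₀ q * rep E (orb E q))⁻¹ * q.out)
  have hout : ∀ (q : G ⧸ (Subgroup.centralizer ({z} : Set G))) (a g : G), a • (g : G ⧸ (Subgroup.centralizer ({z} : Set G))) = q → (a * g)⁻¹ * q.out ∈ (Subgroup.centralizer ({z} : Set G)) := by
    intro q a g e
    rw [← QuotientGroup.eq, QuotientGroup.out_eq']
    exact e
  have hP : ∀ (q : G ⧸ (Subgroup.centralizer ({z} : Set G))) (g : G), g = rep E (orb E q) → ∀ a ∈ E, a • (g : G ⧸ (Subgroup.centralizer ({z} : Set G))) = q →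
      P q = f g a + ψ ((a * g)⁻¹ * q.out) := by
    rintro q g rfl a ha e
    set g := rep E (orb E q)
    obtain ⟨ha0, he0⟩ := (hr q).choose_spec
    change a₀ q ∈ E at ha0
    change a₀ q • (g : G ⧸ (Subgroup.centralizer ({z} : Set G))) = q at he0
    have hu : (a₀ q)⁻¹ * a ∈ stab z E g := by
      refine Subgroup.mem_inf.2 ⟨mul_mem (inv_mem ha0) ha, ?_⟩
      rw [mem_stabilizer_iff, mul_smul, e, inv_smul_eq_iff, he0]
    show f g (a₀ q) + ψ ((a₀ q * g)⁻¹ * q.out) = _
    have e1 : (a₀ q * g)⁻¹ * q.out = (g⁻¹ * ((a₀ q)⁻¹ * a) * g) * ((a * g)⁻¹ * q.out) := by group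
    have e2 : f g a = f g (a₀ q) + ψ (g⁻¹ * ((a₀ q)⁻¹ * a) * g) := by
      have := (hR g).defect _ ha0 _ (stab_le g hu)
      rwa [(hR g).kill _ ha0 _ hu, (hR g).ext _ hu, add_zero, mul_inv_cancel_left] at this
    rw [e1, hψ _ (mem_stab.1 hu).2 _ (hout q a g e), e2]
    ring
  let K : G ⧸ (Subgroup.centralizer ({z} : Set G)) → ZMod 2 := fun q => ψ ((x • q).out⁻¹ * (x * q.out)) + P (x • q) + P q
  have hK0 : ∑ q, K q = 0 := by
    simp only [K, Finset.sum_add_distrib]
    rw [hsum0, zero_add, show ∑ q : G ⧸ (Subgroup.centralizer ({z} : Set G)), P (x • q) = ∑ q, P q from Equiv.sum_comp (MulAction.toPerm x) P]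
    exact zadd_self _
  have hxz : x * z = z * x := mem_centralizer_z.1 hx
  have hxz' : x⁻¹ * z = z * x⁻¹ := by
    rw [inv_mul_eq_iff_eq_mul, ← mul_assoc, hxz, mul_inv_cancel_right]
  have hxE : ∀ e ∈ E, x * e * x⁻¹ ∈ E := h.normal x hxz
  have hxE' : ∀ e ∈ E, x⁻¹ * e * x ∈ E := fun e he => by simpa using h.normal x⁻¹ hxz' e he
  have hEH : E ≤ (Subgroup.centralizer ({z} : Set G)) := fun e he => mem_centralizer_z.2 (h.le_cent e he)
  -- the fixed block
  set q₁ : G ⧸ (Subgroup.centralizer ({z} : Set G)) := ((1 : G) : G ⧸ (Subgroup.centralizer ({z} : Set G)))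
  have hq1 : ∀ a ∈ (Subgroup.centralizer ({z} : Set G)), a • q₁ = q₁ := fun a ha =>
    coset_fixed_iff.2 (by simpa using ha)
  have hB1 : orb E q₁ = {q₁} := by
    ext q
    rw [mem_orb, Finset.mem_singleton]
    exact ⟨fun ⟨a, ha, e⟩ => e ▸ hq1 a (hEH ha), fun e => ⟨1, E.one_mem, by rw [one_smul, e]⟩⟩
  have hK1 : K q₁ = ψ x := by
    have ho : q₁.out ∈ (Subgroup.centralizer ({z} : Set G)) := by
      have : (q₁.out : G ⧸ (Subgroup.centralizer ({z} : Set G))) = ((1 : G) : G ⧸ (Subgroup.centralizer ({z} : Set G))) := QuotientGroup.out_eq' q₁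
      rw [QuotientGroup.eq, mul_one, inv_mem_iff] at this
      exact this
    simp only [K]
    rw [hq1 x hx, hψ _ (inv_mem ho) _ (mul_mem hx ho), hψ _ hx _ ho, hψinv _ ho]
    linear_combination zadd_self (ψ q₁.out) + zadd_self (P q₁)
  have hblock : ∀ q : G ⧸ (Subgroup.centralizer ({z} : Set G)), orb E q ≠ orb E q₁ → ∑ r ∈ orb E q, K r = 0 := by
    intro q hq
    set g' := rep E (orb E q) with hg'
    set g := rep E (orb E (x • (g' : G ⧸ (Subgroup.centralizer ({z} : Set G))))) with hg
    obtain ⟨e, he, hee⟩ := hr (x • (g' : G ⧸ (Subgroup.centralizer ({z} : Set G))))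
    rw [← hg] at hee
    set c := ψ ((e * g)⁻¹ * (x * g'))
    have hc : (e * g)⁻¹ * (x * g') ∈ (Subgroup.centralizer ({z} : Set G)) := by
      rw [← QuotientGroup.eq]
      exact hee
    have hB : orb E (g' : G ⧸ (Subgroup.centralizer ({z} : Set G))) = orb E q := orb_rep E q
    have hBg : orb E (g : G ⧸ (Subgroup.centralizer ({z} : Set G))) = orb E (x • (g' : G ⧸ (Subgroup.centralizer ({z} : Set G)))) := orb_rep E _
    have hformula : ∀ a ∈ E, K (a • (g' : G ⧸ (Subgroup.centralizer ({z} : Set G)))) = c + f g (x * a * x⁻¹ * e) + f g' a := by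
      intro a ha
      set r := a • (g' : G ⧸ (Subgroup.centralizer ({z} : Set G))) with hrdef
      have hra : orb E r = orb E (g' : G ⧸ (Subgroup.centralizer ({z} : Set G))) := orb_eq_of_mem (smul_mem_orb _ ha)
      have hxr : x • r = (x * a * x⁻¹ * e) • (g : G ⧸ (Subgroup.centralizer ({z} : Set G))) := by
        rw [mul_smul (x * a * x⁻¹), hee, hrdef, ← mul_smul, ← mul_smul]
        congr 1; group
      have hxa : x * a * x⁻¹ * e ∈ E := mul_mem (hxE a ha) he
      have hrx : orb E (x • r) = orb E (x • (g' : G ⧸ (Subgroup.centralizer ({z} : Set G)))) := by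
        rw [orb_smul hxE hxE', orb_smul hxE hxE', hra]
      have hP1 := hP r g' (by rw [hra, hB]) a ha rfl
      have hP2 := hP (x • r) g (by rw [hrx]) _ hxa hxr.symm
      have hk' := hout r a g' rfl
      have hk := hout (x • r) _ g hxr.symm
      simp only [K]
      rw [hP1, hP2]
      have e1 : (x • r).out⁻¹ * (x * r.out) =
          ((x * a * x⁻¹ * e * g)⁻¹ * (x • r).out)⁻¹ * ((e * g)⁻¹ * (x * g')) * ((a * g')⁻¹ * r.out) := by
        group
      rw [e1, hψ _ (mul_mem (inv_mem hk) hc) _ hk', hψ _ (inv_mem hk) _ hc, hψinv _ hk]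
      linear_combination zadd_self (ψ ((x * a * x⁻¹ * e * g)⁻¹ * (x • r).out)) +
        zadd_self (ψ ((a * g')⁻¹ * r.out))
    rw [← hB]
    have hcard : (orb E (g : G ⧸ (Subgroup.centralizer ({z} : Set G)))).card = (orb E (g' : G ⧸ (Subgroup.centralizer ({z} : Set G)))).card := by
      rw [hBg, orb_smul hxE hxE', Finset.card_image_of_injective _ (MulAction.injective x)]
    set π : G → G := fun a => x * a * x⁻¹ with hπ
    have hπmul : ∀ a b, π (a * b) = π a * π b := fun a b => by simp only [hπ]; group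
    have R := hR g
    have R' := hR g'
    set χ : G → ZMod 2 := fun a => f g (π a) + β g (π a) e + f g' a
    have hh : ∀ a ∈ E, K (a • (g' : G ⧸ (Subgroup.centralizer ({z} : Set G)))) = (c + f g e) + χ a := fun a ha => by
      rw [hformula a ha, show x * a * x⁻¹ * e = π a * e from rfl, R.defect _ (hxE a ha) _ he]
      simp only [χ]; ring
    have hχ : ∀ a ∈ E, ∀ b ∈ E, χ (a * b) = χ a + χ b + (β g (π a) (π b) + β g' a b) := by
      intro a ha b hb
      simp only [χ]
      rw [hπmul, R.defect _ (hxE a ha) _ (hxE b hb), R.left _ (hxE a ha) _ (hxE b hb) _ he,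
        R'.defect a ha b hb]
      ring
    have hχ1 : χ 1 = 0 := by
      have := hχ 1 E.one_mem 1 E.one_mem
      have h0 : π 1 = 1 := by simp [hπ]
      rw [one_mul, h0, (R.one E.one_mem).2.1, (R'.one E.one_mem).2.1] at this
      linear_combination -this
    have hgg : x ∈ E → g = g' := fun hxE'' => by
      rw [hg, orb_eq_of_mem (smul_mem_orb (A := E) (g' : G ⧸ (Subgroup.centralizer ({z} : Set G))) hxE''), hB]
    have hflat : (x ∈ E ∨ ((z ∈ stab z E g → ψ (g⁻¹ * z * g) = 0) ∧
        (z ∈ stab z E g' → ψ (g'⁻¹ * z * g') = 0))) →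
        ∀ a ∈ E, ∀ b ∈ E, β g (π a) (π b) + β g' a b = 0 := by
      rintro (hxx | ⟨h1, h2⟩) a ha b hb
      · rw [← hgg hxx]
        have h0 : ∀ y ∈ E, β g x y + β g x⁻¹ y = 0 := fun y hy => by
          rw [← R.left x hxx _ (inv_mem hxx) y hy, mul_inv_cancel, (R.one hy).2.2]
        have h0' : ∀ y ∈ E, β g y x + β g y x⁻¹ = 0 := fun y hy => by
          rw [← R.right y hy x hxx _ (inv_mem hxx), mul_inv_cancel, (R.one hy).2.1]
        have hpb := hxE b hb
        simp only [hπ]
        rw [R.left _ (mul_mem hxx ha) _ (inv_mem hxx) _ hpb, R.left x hxx a ha _ hpb,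
          R.right a ha _ (mul_mem hxx hb) _ (inv_mem hxx), R.right a ha x hxx b hb]
        linear_combination h0 _ hpb + h0' a ha + zadd_self (β g a b)
      · rw [(R.flat h1).1, (R'.flat h2).1, add_zero]
    obtain ⟨n, hn⟩ := card_orb_pow h.two (g' : G ⧸ (Subgroup.centralizer ({z} : Set G)))
    match n, hn with
    | 0, hn =>
      exfalso
      apply hq
      rw [← hB]
      have hfix : ∀ a ∈ E, a * (g' * z * g'⁻¹) = g' * z * g'⁻¹ * a := by
        intro a ha
        have h1 := Finset.card_le_one.1 hn.le _ (smul_mem_orb (g' : G ⧸ (Subgroup.centralizer ({z} : Set G))) ha) _ (self_mem_orb E _)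
        exact (mem_stab_iff_commute.1 (Subgroup.mem_inf.2 ⟨ha, h1⟩)).2
      have hmem := h.self_cent _ fun a ha => (hfix a ha).symm
      rcases h.center _ hmem (fun a ha => (hfix a ha).symm) with e1 | e1
      · exact absurd (conj_eq_one_iff.1 e1) h.ne_one
      · congr 1
        rw [QuotientGroup.eq, mul_one, inv_mem_iff, mem_centralizer_z]
        exact mul_inv_eq_iff_eq_mul.1 e1
    | 1, hn =>
      have hconst : ∀ r ∈ orb E (g' : G ⧸ (Subgroup.centralizer ({z} : Set G))), K r = c + f g e := by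
        intro r hr'
        obtain ⟨a, ha, rfl⟩ := mem_orb.1 hr'
        rw [hh a ha, add_eq_left]
        rcases h2 g' (hn.trans (pow_one 2)) with k' | ⟨hxx, k'⟩
        · rcases h2 g (hcard.trans (hn.trans (pow_one 2))) with k | ⟨hxx, -⟩
          · simp only [χ]
            rw [hf0 g k, hf0 g' k', zero_add, add_zero]
            have := R.defect _ (hxE a ha) _ he
            rw [hf0 g k, hf0 g k, hf0 g k, zero_add, zero_add] at this
            exact this.symm
          · have k : ∀ y, f g y = 0 := hf0 g (by rw [hgg hxx]; exact k')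
            have := R.defect _ (hxE a ha) _ he
            rw [k, k, k, zero_add, zero_add] at this
            simp only [χ]
            rw [k, hf0 g' k' a, ← this]
            rfl
        · simp only [χ]
          rw [← hgg hxx] at k' ⊢
          obtain ⟨hb0, -⟩ := R.flat k'
          rw [hb0]
          have e1 : f g (π a) = f g a := by
            simp only [hπ]
            rw [R.defect _ (mul_mem hxx ha) _ (inv_mem hxx), R.defect x hxx a ha, hb0, hb0]
            have e2 := R.defect x hxx _ (inv_mem hxx)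
            rw [mul_inv_cancel, (R.one hxx).1, hb0] at e2
            linear_combination -e2
          rw [e1]
          linear_combination zadd_self (f g a)
      rw [Finset.sum_congr rfl hconst, Finset.sum_const, hn, pow_one, two_nsmul, zadd_self]
    | 2, hn =>
      refine sum_orb_linear h.two _ hn.ge _ _ χ (fun a ha b hb => ?_) hh
      rw [hχ a ha b hb, hflat ?_ a ha b hb, add_zero]
      rcases h4 g' (hn.trans (by norm_num)) with k' | k'
      · exact Or.inl k'
      · rcases h4 g (hcard.trans (hn.trans (by norm_num))) with k | k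
        · exact Or.inl k
        · exact Or.inr ⟨k, k'⟩
    | n + 3, hn =>
      refine sum_orb_quadratic h.two _ ?_ _ (fun a b => β g (π a) (π b) + β g' a b) ?_ ?_
      · rw [hn, pow_add]
        exact Nat.le_mul_of_pos_left _ (pow_pos two_pos n)
      · intro a ha b hb y hy
        rw [hπmul, R.right _ (hxE a ha) _ (hxE b hb) _ (hxE y hy), R'.right a ha b hb y hy]
        ring
      · intro a ha b hb
        have h1 := hh 1 E.one_mem
        rw [one_smul, hχ1, add_zero] at h1
        rw [hh _ (mul_mem ha hb), hh a ha, hh b hb, h1, hχ a ha b hb]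
        linear_combination -zadd_self (c + f g e)
  rw [← Finset.sum_fiberwise_of_maps_to (g := fun q => orb E q) (t := Finset.univ.image fun q => orb E q)
    (fun q _ => Finset.mem_image_of_mem _ (Finset.mem_univ q))] at hK0
  have hfib : ∀ q : G ⧸ (Subgroup.centralizer ({z} : Set G)), Finset.univ.filter (fun r => orb E r = orb E q) = orb E q := fun q => by
    ext r
    simp only [Finset.mem_filter, Finset.mem_univ, true_and]
    exact ⟨fun e => e ▸ self_mem_orb E r, orb_eq_of_mem⟩
  rw [Finset.sum_eq_single_of_mem (orb E q₁) (Finset.mem_image_of_mem _ (Finset.mem_univ q₁)) fun B hB hne => ?_,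
    hfib, hB1, Finset.sum_singleton, hK1] at hK0
  · exact hK0
  · obtain ⟨q, -, rfl⟩ := Finset.mem_image.1 hB
    rw [hfib]
    exact hblock q hne

end CfsgLib.LargeExtra
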