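import Cfsg.Agent.Lib.LargeExtra.Core
import Mathlib.GroupTheory.Commutator.Basic

/-!
# Elementary facts on subgroups of a large extraspecial subgroup
-/

set_option autoImplicit false

namespace CfsgLib.LargeExtra

open scoped commutatorElement

variable {G : Type*} [Group G] {z : G}

theorem card_two_mul_le [Finite G] {A B : Subgroup G} (h : A < B) : 2 * Nat.card A ≤ Nat.card B := by
  have hd := Subgroup.card_dvd_of_le h.le
  obtain ⟨k, hk⟩ := hd
  rcases k with _ | _ | k
  · rw [mul_zero] at hk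
    exact absurd hk Nat.card_pos.ne'
  · rw [zero_add, mul_one] at hk
    exact absurd (Subgroup.eq_of_le_of_card_ge h.le hk.le) h.ne
  · rw [hk, mul_comm]
    exact Nat.mul_le_mul_left _ (by omega)

/-- An abelian subgroup of index at most four has order at most eight. -/
theorem abelian_bound [Finite G] {E : Subgroup G} (h : Setting z E) {U : Subgroup G} (hUE : U ≤ E)
    (hab : ∀ a ∈ U, ∀ b ∈ U, a * b = b * a) (hcard : Nat.card E ≤ 4 * Nat.card U) :
    Nat.card U ≤ 8 := by
  classical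
  obtain ⟨t₁, t₂, ht₁, ht₂, hgen⟩ : ∃ t₁ t₂, t₁ ∈ E ∧ t₂ ∈ E ∧
      E ≤ U ⊔ Subgroup.zpowers t₁ ⊔ Subgroup.zpowers t₂ := by
    by_cases e1 : U = E
    · exact ⟨1, 1, E.one_mem, E.one_mem, e1 ▸ le_sup_of_le_left (le_sup_of_le_left le_rfl)⟩
    obtain ⟨t₁, ht₁, ht₁'⟩ := SetLike.exists_of_lt (lt_of_le_of_ne hUE e1)
    set A := U ⊔ Subgroup.zpowers t₁ with hA
    have hAE : A ≤ E := sup_le hUE ((Subgroup.zpowers_le).2 ht₁)
    have hA2 : 2 * Nat.card U ≤ Nat.card A := card_two_mul_le (lt_of_le_of_ne le_sup_left fun e =>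
      ht₁' (e ▸ Subgroup.mem_sup_right (Subgroup.mem_zpowers t₁)))
    by_cases e2 : A = E
    · exact ⟨t₁, 1, ht₁, E.one_mem, e2 ▸ le_sup_left⟩
    obtain ⟨t₂, ht₂, ht₂'⟩ := SetLike.exists_of_lt (lt_of_le_of_ne hAE e2)
    refine ⟨t₁, t₂, ht₁, ht₂, ?_⟩
    have hBE : A ⊔ Subgroup.zpowers t₂ ≤ E := sup_le hAE ((Subgroup.zpowers_le).2 ht₂)
    have hB2 : 2 * Nat.card A ≤ Nat.card (A ⊔ Subgroup.zpowers t₂ : Subgroup G) :=
      card_two_mul_le (lt_of_le_of_ne le_sup_left fun e =>
        ht₂' (e.symm ▸ Subgroup.mem_sup_right (Subgroup.mem_zpowers t₂)))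
    rw [Subgroup.eq_of_le_of_card_ge hBE (by omega)]
  set S := (U : Set G).toFinite.toFinset with hS
  have hSc : S.card = Nat.card U := by
    rw [hS, ← Set.ncard_eq_toFinset_card, ← Nat.card_coe_set_eq]; rfl
  rw [← hSc]
  let F : G → Bool × Bool := fun u => (decide (u * t₁ = t₁ * u), decide (u * t₂ = t₂ * u))
  have key : ∀ t ∈ E, ∀ u ∈ U, ∀ v ∈ U, (u * t = t * u ↔ v * t = t * v) →
      (v * u⁻¹) * t = t * (v * u⁻¹) := by
    intro t ht u hu v hv hiff
    by_cases hut : u * t = t * u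
    · exact (Commute.mul_left (hiff.1 hut) (Commute.inv_left hut)).eq
    · have hvt := fun e => hut (hiff.2 e)
      have e1 := (h.comm_z_left (hUE hu) ht).resolve_left hut
      have e2 := (h.comm_z_left (hUE hv) ht).resolve_left hvt
      have hut' : u⁻¹ * t = t * z * u⁻¹ := by
        rw [eq_mul_inv_iff_mul_eq, mul_assoc, inv_mul_eq_iff_eq_mul, ← mul_assoc, e1, mul_assoc (t * u) z z,
          h.sq_one, mul_one]
      calc v * u⁻¹ * t = v * t * z * u⁻¹ := by rw [mul_assoc v u⁻¹ t, hut']; group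
        _ = t * (v * u⁻¹) := by rw [e2, mul_assoc (t * v) z z, h.sq_one, mul_one, mul_assoc]
  refine (Finset.card_le_mul_card_image (f := F) S 2 fun y _ => ?_).trans ?_
  · by_contra hlt
    push Not at hlt
    obtain ⟨u, hu⟩ := Finset.card_pos.1 (by omega : 0 < (S.filter fun a => F a = y).card)
    have hsub : (S.filter fun a => F a = y) ⊆ {u, z * u} := by
      intro v hv
      rw [Finset.mem_filter, hS, Set.Finite.mem_toFinset, SetLike.mem_coe] at hu hv
      have hF : F u = F v := hu.2.trans hv.2.symm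
      simp only [F, Prod.mk.injEq, decide_eq_decide] at hF
      set w := v * u⁻¹
      have hwU : w ∈ U := mul_mem hv.1 (inv_mem hu.1)
      have hle : E ≤ Subgroup.centralizer ({w} : Set G) := by
        refine hgen.trans (sup_le (sup_le ?_ ?_) ?_)
        · intro a ha
          rw [Subgroup.mem_centralizer_singleton_iff]
          exact hab a ha w hwU
        · rw [Subgroup.zpowers_le, Subgroup.mem_centralizer_singleton_iff]
          exact (key t₁ ht₁ u hu.1 v hv.1 hF.1).symm
        · rw [Subgroup.zpowers_le, Subgroup.mem_centralizer_singleton_iff]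
          exact (key t₂ ht₂ u hu.1 v hv.1 hF.2).symm
      have := h.center w (hUE hwU) fun b hb => (Subgroup.mem_centralizer_singleton_iff.1 (hle hb)).symm
      rcases this with e | e
      · simp [mul_inv_eq_one.1 e]
      · simp [mul_inv_eq_iff_eq_mul.1 e]
    have := (Finset.card_le_card hsub).trans Finset.card_le_two
    omega
  · calc 2 * (S.image F).card ≤ 2 * 4 := Nat.mul_le_mul_left _ ((Finset.card_le_univ _).trans (by simp))
      _ = 8 := rfl

/-- Large stabilizers are nonabelian, and then the pulled back involution is a commutator in `C(z)`. -/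
theorem conj_z_mem_commutator [Finite G] {E : Subgroup G}
    [Fintype (G ⧸ Subgroup.centralizer ({z} : Set G))] (h : Setting z E) (g : G)
    (hcard : (orb E (g : G ⧸ Subgroup.centralizer ({z} : Set G))).card ≤ 4)
    (hbig : 8 * (orb E (g : G ⧸ Subgroup.centralizer ({z} : Set G))).card < Nat.card E) :
    z ∈ stab z E g ∧
      g⁻¹ * z * g ∈ ⁅Subgroup.centralizer ({z} : Set G), Subgroup.centralizer ({z} : Set G)⁆ := by
  have hmul := orb_card_mul (z := z) E g
  obtain ⟨a, ha, b, hb, hne⟩ : ∃ a ∈ stab z E g, ∃ b ∈ stab z E g, a * b ≠ b * a := by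
    by_contra hcon
    push Not at hcon
    have hle : Nat.card E ≤ 4 * Nat.card (stab z E g) := hmul ▸ Nat.mul_le_mul_right _ hcard
    have := Nat.mul_le_mul_left (orb E (g : G ⧸ Subgroup.centralizer ({z} : Set G))).card
      (abelian_bound h (stab_le g) hcon hle)
    rw [hmul] at this
    omega
  have hz : a⁻¹ * b⁻¹ * a * b = z := (h.comm a (stab_le g ha) b (stab_le g hb)).resolve_left fun e => hne (by
    calc a * b = b * a * (a⁻¹ * b⁻¹ * a * b) := by group
      _ = b * a := by rw [e, mul_one])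
  have hm := mul_mem (mul_mem (mul_mem (inv_mem ha) (inv_mem hb)) ha) hb
  rw [hz] at hm
  refine ⟨hm, ?_⟩
  have e : g⁻¹ * z * g = ⁅(g⁻¹ * a * g)⁻¹, (g⁻¹ * b * g)⁻¹⁆ := by
    rw [← hz, commutatorElement_def]; group
  rw [e]
  exact Subgroup.commutator_mem_commutator (inv_mem (mem_stab.1 ha).2) (inv_mem (mem_stab.1 hb).2)

/-- A homomorphism into `ZMod 2` kills the commutators. -/
theorem psi_commutator {H : Subgroup G} {ψ : G → ZMod 2}
    (hψ : ∀ a ∈ H, ∀ b ∈ H, ψ (a * b) = ψ a + ψ b) {c : G} (hc : c ∈ ⁅H, H⁆) : ψ c = 0 := by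
  have hψ1 : ψ 1 = 0 := by
    have := hψ 1 H.one_mem 1 H.one_mem
    rw [one_mul] at this
    linear_combination -this
  let K : Subgroup G :=
    { carrier := {a | a ∈ H ∧ ψ a = 0}
      one_mem' := ⟨H.one_mem, hψ1⟩
      mul_mem' := fun {a b} ha hb => ⟨mul_mem ha.1 hb.1, by rw [hψ a ha.1 b hb.1, ha.2, hb.2, add_zero]⟩
      inv_mem' := fun {a} ha => ⟨inv_mem ha.1, by
        have := hψ a ha.1 a⁻¹ (inv_mem ha.1)
        rw [mul_inv_cancel, hψ1, ha.2, zero_add] at this
        exact this.symm⟩ }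
  have hle : ⁅H, H⁆ ≤ K := by
    rw [Subgroup.commutator_le]
    intro a ha b hb
    refine ⟨mul_mem (mul_mem (mul_mem ha hb) (inv_mem ha)) (inv_mem hb), ?_⟩
    have hi : ∀ y ∈ H, ψ y⁻¹ = ψ y := fun y hy => by
      have := hψ y hy y⁻¹ (inv_mem hy)
      rw [mul_inv_cancel, hψ1] at this
      linear_combination -this + -zadd_self (ψ y)
    rw [commutatorElement_def, hψ _ (mul_mem (mul_mem ha hb) (inv_mem ha)) _ (inv_mem hb),
      hψ _ (mul_mem ha hb) _ (inv_mem ha), hψ _ ha _ hb, hi a ha, hi b hb]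
    linear_combination zadd_self (ψ a) + zadd_self (ψ b)
  exact (hle hc).2

end CfsgLib.LargeExtra
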