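import Cfsg.Agent.Lib.LargeExtra.Facts
import Cfsg.Agent.Lib.Extraspecial.Card
import Cfsg.Agent.Lib.Solvable.Core
import Cfsg.Prelude.Def_Solvable

/-!
# From the centralizer hypotheses to a `Setting`
-/

set_option autoImplicit false

namespace CfsgLib.LargeExtra

variable {G : Type*} [Group G] [Finite G] {z : G}

theorem setting_of_hyp (hz : orderOf z = 2) {E : Subgroup G}
    (hE : E = (Cfsg.pCore 2 ↥(Subgroup.centralizer ({z} : Set G))).map
      (Subgroup.centralizer ({z} : Set G)).subtype)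
    (hext : Cfsg.IsExtraspecial 2 E) (hcent : Subgroup.centralizer (E : Set G) ≤ E) : Setting z E := by
  refine setting_of_extraspecial hz (hE ▸ Subgroup.map_subtype_le _) (fun h hh e he => ?_) hext hcent
  rw [hE] at he ⊢
  obtain ⟨y, hy, rfl⟩ := he
  exact ⟨⟨h, mem_centralizer_z.2 hh⟩ * y * ⟨h, mem_centralizer_z.2 hh⟩⁻¹,
    (CfsgLib.Solvable.pCore_normal (p := 2) _).conj_mem y hy _, rfl⟩

theorem card_cases {E : Subgroup G} (hext : Cfsg.IsExtraspecial 2 E) :
    Nat.card E = 8 ∨ 32 ≤ Nat.card E := by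
  have := Fact.mk Nat.prime_two
  obtain ⟨n, hn, hc⟩ := CfsgLib.Extraspecial.exists_card hext
  rcases Nat.lt_or_ge n 2 with h | h
  · obtain rfl : n = 1 := by omega
    exact Or.inl hc
  · right
    rw [hc]
    exact le_trans (by norm_num : 32 ≤ 2 ^ 5) (Nat.pow_le_pow_right two_pos (by omega))

end CfsgLib.LargeExtra
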