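import Cfsg.Agent.Lib.LargeExtra.Facts
import Mathlib.GroupTheory.QuotientGroup.Basic

/-!
# Orbits of length two when `z` is weakly closed in `E`
-/

set_option autoImplicit false

namespace CfsgLib.LargeExtra

variable {G : Type*} [Group G] [Finite G] {z : G} {E : Subgroup G}

theorem inv_mem_pair (h : Setting z E) {x : G} (hx : x = 1 ∨ x = z) : x⁻¹ = x := by
  rcases hx with rfl | rfl
  · exact inv_one
  · exact h.inv_z

/-- An involution of `C(z)` has a large centralizer in `E`. -/
theorem involution_centralizer_bound (h : Setting z E) {w : G} (hw : w * z = z * w) (hw2 : w * w = 1) :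
    Nat.card E ≤ 2 * Nat.card (E ⊓ Subgroup.centralizer ({w} : Set G) : Subgroup G) ^ 2 := by
  classical
  have hwi : w⁻¹ = w := inv_eq_of_mul_eq_one_right hw2
  have hwE : ∀ e ∈ E, w * e * w ∈ E := fun e he => by
    have := h.normal w hw e he
    rwa [hwi] at this
  have hcm : ∀ e ∈ E, e⁻¹ * w * e * w ∈ E := fun e he => by
    have := mul_mem (inv_mem he) (hwE e he)
    rwa [← mul_assoc, ← mul_assoc] at this
  have hcen : ∀ x : E, x ∈ Subgroup.center E ↔ ((x : G) = 1 ∨ (x : G) = z) := by
    intro x
    constructor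
    · exact fun hx => h.center x x.2 fun b hb =>
        (congrArg Subtype.val (Subgroup.mem_center_iff.1 hx ⟨b, hb⟩)).symm
    · rintro (e | e) <;> refine Subgroup.mem_center_iff.2 fun y => Subtype.ext ?_ <;>
        show (y : G) * x = x * y <;> rw [e]
      · rw [mul_one, one_mul]
      · exact h.le_cent y y.2
  have hab : ∀ a b : E ⧸ Subgroup.center E, a * b = b * a := by
    intro a b
    obtain ⟨a, rfl⟩ := QuotientGroup.mk_surjective a
    obtain ⟨b, rfl⟩ := QuotientGroup.mk_surjective b
    rw [← QuotientGroup.mk_mul, ← QuotientGroup.mk_mul, QuotientGroup.eq, hcen]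
    show ((a : G) * b)⁻¹ * (b * a) = 1 ∨ ((a : G) * b)⁻¹ * (b * a) = z
    rw [show ((a : G) * b)⁻¹ * (b * a) = (b : G)⁻¹ * (a : G)⁻¹ * b * a by group]
    exact h.comm b b.2 a a.2
  let δ : E →* E ⧸ Subgroup.center E := MonoidHom.mk'
    (fun e => ((⟨_, hcm e e.2⟩ : E) : E ⧸ Subgroup.center E)) fun a b => by
      have e1 : (⟨_, hcm _ (a * b).2⟩ : E) = b⁻¹ * ⟨_, hcm a a.2⟩ * ⟨_, hwE b b.2⟩ :=
        Subtype.ext (by
          show ((a : G) * b)⁻¹ * w * (a * b) * w = (b : G)⁻¹ * ((a : G)⁻¹ * w * a * w) * (w * b * w)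
          have : (b : G)⁻¹ * ((a : G)⁻¹ * w * a * w) * (w * b * w) =
              (b : G)⁻¹ * (a : G)⁻¹ * w * a * (w * w) * b * w := by group
          rw [this, hw2]
          group)
      have e2 : (⟨_, hcm b b.2⟩ : E) = b⁻¹ * ⟨_, hwE b b.2⟩ :=
        Subtype.ext (by show (b : G)⁻¹ * w * b * w = (b : G)⁻¹ * (w * b * w); group)
      show _ = _
      rw [e1, e2, QuotientGroup.mk_mul, QuotientGroup.mk_mul, QuotientGroup.mk_mul,
        hab ((b⁻¹ : E) : E ⧸ Subgroup.center E), mul_assoc]
  set W := δ.ker
  have hsq : ∀ x : E, ((x : E ⧸ Subgroup.center E)) * (x : E ⧸ Subgroup.center E) = 1 := by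
    intro x
    rw [← QuotientGroup.mk_mul, QuotientGroup.eq_one_iff, hcen]
    exact h.sq x x.2
  have hR : δ.range.comap (QuotientGroup.mk' (Subgroup.center E)) ≤ W := by
    rintro y ⟨e, he⟩
    rw [MonoidHom.mem_ker]
    set c : E := ⟨_, hcm e e.2⟩ with hc
    have h1 : c⁻¹ * y ∈ Subgroup.center E := QuotientGroup.eq.1 he
    have h2 : y = c * (c⁻¹ * y) := by group
    rw [h2, map_mul]
    have h3 : δ c = 1 := by
      show ((⟨_, hcm c c.2⟩ : E) : E ⧸ Subgroup.center E) = 1
      have : (⟨_, hcm c c.2⟩ : E) = c⁻¹ * c⁻¹ := Subtype.ext (by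
        show (c : G)⁻¹ * w * c * w = (c : G)⁻¹ * (c : G)⁻¹
        have hcinv : w * (c : G) * w = (c : G)⁻¹ := by
          show w * ((e : G)⁻¹ * w * e * w) * w = ((e : G)⁻¹ * w * e * w)⁻¹
          rw [show w * ((e : G)⁻¹ * w * e * w) * w = w * (e : G)⁻¹ * w * e * (w * w) by group, hw2,
            mul_one]
          simp only [mul_inv_rev, inv_inv, hwi]
          group
        rw [← hcinv]; group)
      rw [this, QuotientGroup.mk_mul, hsq]
    have h4 : δ (c⁻¹ * y) = 1 := by
      show ((⟨_, hcm _ (c⁻¹ * y).2⟩ : E) : E ⧸ Subgroup.center E) = 1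
      rw [QuotientGroup.eq_one_iff, hcen]
      refine Or.inl ?_
      show ((c⁻¹ * y : E) : G)⁻¹ * w * _ * w = 1
      rcases (hcen _).1 h1 with e' | e' <;> rw [e']
      · rw [inv_one, one_mul, mul_one, hw2]
      · rw [mul_assoc _ w z, hw, ← mul_assoc, h.inv_z, h.sq_one, one_mul, hw2]
    rw [h3, h4, one_mul]
  have hc1 : Nat.card W * Nat.card δ.range = Nat.card E := by
    rw [← Subgroup.index_ker δ]; exact W.card_mul_index
  have hc2 : 2 * Nat.card δ.range ≤ Nat.card W := by
    refine le_trans (le_of_eq ?_) (Subgroup.card_le_of_le hR)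
    have h1 : (δ.range.comap (QuotientGroup.mk' (Subgroup.center E))).index = δ.range.index :=
      Subgroup.index_comap_of_surjective _ (QuotientGroup.mk'_surjective _)
    have h2 := Subgroup.card_mul_index (δ.range.comap (QuotientGroup.mk' (Subgroup.center E)))
    have h3 := Subgroup.card_mul_index δ.range
    have h4 := Subgroup.card_eq_card_quotient_mul_card_subgroup (Subgroup.center E)
    have h5 : Nat.card (Subgroup.center E) = 2 := by
      rw [Nat.card_eq_two_iff]
      refine ⟨1, ⟨⟨z, h.mem⟩, (hcen _).2 (Or.inr rfl)⟩, fun e => h.ne_one ?_, ?_⟩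
      · exact (congrArg (fun x : Subgroup.center E => ((x : E) : G)) e).symm
      · ext x
        simp only [Set.mem_insert_iff, Set.mem_singleton_iff, Set.mem_univ, iff_true]
        rcases (hcen _).1 x.2 with e | e
        · exact Or.inl (Subtype.ext (Subtype.ext e))
        · exact Or.inr (Subtype.ext (Subtype.ext e))
    have hpos : 0 < δ.range.index := Nat.pos_of_ne_zero Subgroup.index_ne_zero_of_finite
    refine Nat.eq_of_mul_eq_mul_right hpos ?_
    rw [h1] at h2
    rw [h2, h4, h5, ← h3]
    ring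
  -- the centralizer has index at most two in `W`
  set C := E ⊓ Subgroup.centralizer ({w} : Set G) with hC
  have hWval : ∀ x : W, (x : G)⁻¹ * w * (x : G) * w = 1 ∨ (x : G)⁻¹ * w * (x : G) * w = z := fun x => by
    have := x.2
    rw [MonoidHom.mem_ker] at this
    exact (hcen _).1 ((QuotientGroup.eq_one_iff _).1 this)
  let F : W → Bool := fun x => decide ((x : G)⁻¹ * w * (x : G) * w = 1)
  have hc3 : Nat.card W ≤ 2 * Nat.card C := by
    have := Fintype.ofFinite W
    have := Fintype.ofFinite C
    rw [Nat.card_eq_fintype_card, Nat.card_eq_fintype_card, mul_comm]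
    refine le_trans (le_of_eq Finset.card_univ.symm) ?_
    refine (Finset.card_le_mul_card_image (f := F) Finset.univ (Fintype.card C) fun y _ => ?_).trans
      (Nat.mul_le_mul_left _ ((Finset.card_le_univ _).trans (le_of_eq Fintype.card_bool)))
    rcases Finset.eq_empty_or_nonempty (Finset.univ.filter fun a => F a = y) with h0 | ⟨u, hu⟩
    · rw [h0]; exact Nat.zero_le _
    have hmap : ∀ v ∈ Finset.univ.filter (fun a => F a = y), (v : G) * (u : G)⁻¹ ∈ C := by
      intro v hv
      refine Subgroup.mem_inf.2 ⟨mul_mem (v : E).2 (inv_mem (u : E).2), ?_⟩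
      have hF : F v = F u := (Finset.mem_filter.1 hv).2.trans (Finset.mem_filter.1 hu).2.symm
      simp only [F, decide_eq_decide] at hF
      have heq : (v : G)⁻¹ * w * v * w = (u : G)⁻¹ * w * u * w := by
        rcases hWval v with e | e
        · rw [e, hF.1 e]
        · rw [e]
          rcases hWval u with e' | e'
          · rw [hF.2 e'] at e; exact absurd e.symm h.ne_one
          · rw [e']
      rw [Subgroup.mem_centralizer_singleton_iff]
      have e2 := mul_right_cancel heq
      calc (v : G) * (u : G)⁻¹ * w = v * ((u : G)⁻¹ * w * u) * (u : G)⁻¹ := by group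
        _ = w * (v * (u : G)⁻¹) := by rw [← e2]; group
    rw [← Fintype.card_coe]
    exact Fintype.card_le_of_injective (fun v => (⟨_, hmap v v.2⟩ : C)) fun v v' e => Subtype.ext
      (Subtype.ext (Subtype.ext (mul_right_cancel (congrArg Subtype.val e))))
  have : Nat.card E * 2 ≤ Nat.card W * Nat.card W := by
    calc Nat.card E * 2 = Nat.card W * (2 * Nat.card δ.range) := by rw [← hc1]; ring
      _ ≤ _ := Nat.mul_le_mul_left _ hc2
  have := this.trans (Nat.mul_le_mul hc3 hc3)
  rw [pow_two]
  linarith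

/-- If `z` is weakly closed in `E` and `E` is large, no orbit of `E` on `G/C(z)` has length two. -/
theorem no_orbit_two [Fintype (G ⧸ Subgroup.centralizer ({z} : Set G))] (h : Setting z E)
    (h128 : 128 ≤ Nat.card E) (hweak : ∀ g : G, g * z * g⁻¹ ∈ E → g * z * g⁻¹ = z) (g : G)
    (hg : (orb E (g : G ⧸ Subgroup.centralizer ({z} : Set G))).card = 2) : False := by
  classical
  set U := stab z E g with hU
  set z' := g * z * g⁻¹ with hz'
  have hmul := orb_card_mul (z := z) E g
  rw [hg] at hmul
  change 2 * Nat.card U = Nat.card E at hmul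
  have hzU : z ∈ U := (conj_z_mem_commutator h g (by omega) (by omega)).1
  have hUz : ∀ u ∈ U, u * z' = z' * u := fun u hu => (mem_stab_iff_commute.1 hu).2
  have hz'z : z' * z = z * z' := (hUz z hzU).symm
  have hz'ne : z' ≠ z := by
    intro e
    have : U = E := le_antisymm (stab_le g) fun a ha =>
      mem_stab_iff_commute.2 ⟨ha, by rw [← hz', e]; exact h.le_cent a ha⟩
    rw [this] at hmul
    omega
  have hz'E : z' ∉ E := fun e => hz'ne (hweak g e)
  have hzE' : g⁻¹ * z * g ∉ E := by
    intro e
    have h1 := hweak g⁻¹ (by rwa [inv_inv])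
    rw [inv_inv] at h1
    apply hz'ne
    rw [hz']
    nth_rewrite 1 [← h1]
    group
  -- `U` has index two
  obtain ⟨t, htE, htU⟩ : ∃ t ∈ E, t ∉ U := SetLike.exists_of_lt
    (lt_of_le_of_ne (stab_le g) fun e => by rw [e] at hmul; omega)
  have hidx : (U.subgroupOf E).index = 2 := by
    have h1 := (U.subgroupOf E).card_mul_index
    rw [Nat.card_congr (Subgroup.subgroupOfEquivOfLe (stab_le g)).toEquiv] at h1
    have h2 : 0 < Nat.card U := Nat.card_pos
    nlinarith
  have hsplit : ∀ e ∈ E, e ∈ U ∨ t⁻¹ * e ∈ U := by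
    intro e he
    rw [or_iff_not_imp_left]
    intro heU
    have := (Subgroup.mul_mem_iff_of_index_two hidx (a := (⟨t, htE⟩ : E)⁻¹) (b := ⟨e, he⟩)).2
      ⟨fun h' => absurd (Subgroup.inv_mem_iff _ |>.1 h') htU, fun h' => absurd h' heU⟩
    exact this
  have hfix : ∀ x : G, (∀ u ∈ U, x * u = u * x) → x * t = t * x → ∀ e ∈ E, x * e = e * x := by
    intro x hxU hxt e he
    rcases hsplit e he with e' | e'
    · exact hxU e e'
    · calc x * e = x * t * (t⁻¹ * e) := by group
        _ = t * (x * (t⁻¹ * e)) := by rw [hxt, mul_assoc]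
        _ = e * x := by rw [hxU _ e']; group
  set A : Set G := {a | a ∈ U ∧ g⁻¹ * a * g ∈ E} with hA
  have hUnorm : ∀ u ∈ U, ∀ y, g⁻¹ * y * g ∈ E → g⁻¹ * (u * y * u⁻¹) * g ∈ E := by
    intro u hu y hy
    have := h.normal _ (mem_centralizer_z.1 (mem_stab.1 hu).2) _ hy
    convert this using 1
    group
  have hA1 : ∀ a ∈ A, a = 1 := by
    rintro a ⟨haU, haE'⟩
    by_contra ha1
    have haa : a * a = 1 := by
      have h1 : g⁻¹ * (a * a) * g = (g⁻¹ * a * g) * (g⁻¹ * a * g) := by group
      rcases h.sq a (stab_le g haU) with e | e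
      · exact e
      rcases h.sq _ haE' with e' | e' <;> rw [← h1, e] at e'
      · exact absurd (by rw [show z = g * (g⁻¹ * z * g) * g⁻¹ by group, e']; group) h.ne_one
      · exact absurd (by rw [e']; exact h.mem) hzE'
    have hcentral : ∀ u ∈ U, a * u = u * a := by
      intro u hu
      rcases h.comm u (stab_le g hu) a (stab_le g haU) with e | e
      · calc a * u = a * u * (u⁻¹ * a⁻¹ * u * a) := by rw [e, mul_one]
          _ = u * a := by group
      · exfalso
        apply hzE'
        rw [← e]
        have h1 := mul_mem (hUnorm u⁻¹ (inv_mem hu) a⁻¹ (by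
          convert inv_mem haE' using 1; group)) haE'
        convert h1 using 1
        group
    have haz : a ≠ z := fun e => hzE' (e ▸ haE')
    have hat : a * t ≠ t * a := fun e => by
      rcases h.center a (stab_le g haU) (hfix a hcentral e) with e' | e'
      exacts [ha1 e', haz e']
    have hz'i : z'⁻¹ = z' := by rw [hz']; simp [h.inv_z, mul_assoc]
    set d := t⁻¹ * (z' * t * z'⁻¹) with hd
    have hdE : d ∈ E := mul_mem (inv_mem htE) (h.normal z' hz'z t htE)
    have hdU : d ∈ U := by
      rcases hsplit _ (h.normal z' hz'z t htE) with e | e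
      · exfalso
        apply htU
        have h1 := hUz _ e
        have : z' * t * z'⁻¹ = t := by
          calc z' * t * z'⁻¹ = z'⁻¹ * (z' * (z' * t * z'⁻¹)) := by group
            _ = z'⁻¹ * ((z' * t * z'⁻¹) * z') := by rw [h1]
            _ = t := by group
        rwa [this] at e
      · exact e
    have hdc : ∀ y ∈ U, d * y = y * d := by
      intro y hy
      -- conjugation by `z'` fixes `U` pointwise and the commutator values
      obtain ⟨k, hk, hk'⟩ : ∃ k, t⁻¹ * y * t = y * k ∧ (k = 1 ∨ k = z) :=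
        ⟨_, by group, h.comm y (stab_le g hy) t htE⟩
      have hkz : z' * k = k * z' := by
        rcases hk' with rfl | rfl
        · rw [mul_one, one_mul]
        · exact hz'z
      have hkd : d * k = k * d := by
        rcases hk' with rfl | rfl
        · rw [mul_one, one_mul]
        · exact h.le_cent d hdE
      have hzy : z' * y * z'⁻¹ = y := by rw [← hUz y hy, mul_inv_cancel_right]
      have h1 : d⁻¹ * (t⁻¹ * y * t) * d = y * k := by
        calc d⁻¹ * (t⁻¹ * y * t) * d = (t * d)⁻¹ * y * (t * d) := by group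
          _ = (z' * t * z'⁻¹)⁻¹ * (z' * y * z'⁻¹) * (z' * t * z'⁻¹) := by
            rw [hzy, hd, mul_inv_cancel_left]
          _ = z' * (t⁻¹ * y * t) * z'⁻¹ := by group
          _ = y * k := by rw [hk, ← mul_assoc z' y k, ← hUz y hy, mul_assoc y z' k, hkz]; group
      rw [hk] at h1
      have h2 : d⁻¹ * y * d * k = y * k := by
        calc d⁻¹ * y * d * k = d⁻¹ * (y * k) * d := by rw [mul_assoc _ d k, hkd]; group
          _ = y * k := h1
      have h3 := mul_right_cancel h2
      rw [mul_assoc, inv_mul_eq_iff_eq_mul] at h3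
      exact h3.symm
    have hsq : t * d * (t * d) = t * t := by
      have h1 : t * d * (t * d) = z' * (t * t) * z'⁻¹ := by rw [hd]; group
      rw [h1]
      rcases h.sq t htE with e | e <;> rw [e]
      · group
      · rw [hz'z, mul_inv_cancel_right]
    have hdtd : d * t * d = t := by
      have := mul_left_cancel ((by simpa only [mul_assoc] using hsq) : t * (d * (t * d)) = t * t)
      rwa [← mul_assoc] at this
    -- `d ∈ {1, z}`
    have hd1 : d = 1 ∨ d = z := by
      by_cases e : d * t = t * d
      · exact h.center d hdE (hfix d hdc e)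
      exfalso
      have e1 := (h.comm_z_left hdE htE).resolve_left e
      have e2 := (h.comm_z_left (stab_le g haU) htE).resolve_left hat
      have e3 : (d * a) * t = t * (d * a) := by
        rw [mul_assoc d a t, e2, ← mul_assoc d (t * a) z, ← mul_assoc d t a, e1, mul_assoc (t * d) z a,
          ← h.le_cent a (stab_le g haU), ← mul_assoc (t * d) a z, mul_assoc (t * d * a) z z, h.sq_one,
          mul_one, mul_assoc]
      rcases h.center _ (mul_mem hdE (stab_le g haU))
        (hfix _ (fun u hu => (Commute.mul_left (hdc u hu) (hcentral u hu)).eq) e3) with e4 | e4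
      · have : d = a := by
          rw [eq_inv_of_mul_eq_one_left e4]
          exact inv_eq_of_mul_eq_one_right haa
        rw [this] at e hdtd
        exact e (by
          calc a * t = a * t * (a * a) := by rw [haa, mul_one]
            _ = a * t * a * a := by group
            _ = t * a := by rw [hdtd])
      · have hdz : d = z * a := by
          rw [eq_mul_inv_iff_mul_eq.2 e4, inv_eq_of_mul_eq_one_right haa]
        rw [hdz] at hdtd
        apply hat
        have hta : t * a * z = z * (t * a) := h.le_cent _ (mul_mem htE (stab_le g haU))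
        have h5 : z * a * t * (z * a) = a * t * a := by
          calc z * a * t * (z * a) = z * (a * t * z) * a := by group
            _ = z * (z * (a * t)) * a := by rw [h.le_cent _ (mul_mem (stab_le g haU) htE)]
            _ = a * t * a := by rw [← mul_assoc z z, h.sq_one, one_mul]
        rw [h5] at hdtd
        calc a * t = a * t * (a * a) := by rw [haa, mul_one]
          _ = a * t * a * a := by group
          _ = t * a := by rw [hdtd]
    rcases hd1 with e | e
    · rw [hd, inv_mul_eq_one, eq_comm, mul_inv_eq_iff_eq_mul] at e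
      exact hz'E (h.self_cent z' (hfix z' (fun u hu => (hUz u hu).symm) e))
    · have hzt : z' * t = t * z * z' := by
        rw [← mul_inv_eq_iff_eq_mul, ← e, hd, mul_inv_cancel_left]
      have hat' := (h.comm_z_left (stab_le g haU) htE).resolve_left hat
      have e1 : (a * z') * t = t * (a * z') := by
        calc a * z' * t = a * (t * z * z') := by rw [mul_assoc, hzt]
          _ = a * t * (z * z') := by group
          _ = t * a * (z * z * z') := by rw [hat']; group
          _ = t * (a * z') := by rw [h.sq_one, one_mul, mul_assoc]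
      have h2 := h.self_cent _ (hfix (a * z') (fun u hu =>
        (Commute.mul_left (hcentral u hu) (hUz u hu).symm).eq) e1)
      exact hz'E ((E.mul_mem_cancel_left (stab_le g haU)).1 h2)
  -- the centralizer of `z` in the conjugate of `E`
  set w := g⁻¹ * z * g with hw
  have hwz : w * z = z * w := mem_centralizer_z.1 (mem_stab.1 hzU).2
  have hw2 : w * w = 1 := by rw [hw, show g⁻¹ * z * g * (g⁻¹ * z * g) = g⁻¹ * (z * z) * g by group, h.sq_one]; group
  set C := E ⊓ Subgroup.centralizer ({w} : Set G) with hC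
  have hC8 : 8 ≤ Nat.card C := by
    have := involution_centralizer_bound h hwz hw2
    rw [← hC] at this
    by_contra hlt
    push Not at hlt
    have : Nat.card C ^ 2 ≤ 7 ^ 2 := Nat.pow_le_pow_left (by omega) 2
    omega
  -- its conjugate centralizes `U`
  have hW : ∀ c ∈ C, (g * c * g⁻¹) * z = z * (g * c * g⁻¹) ∧ ∀ u ∈ U, (g * c * g⁻¹) * u = u * (g * c * g⁻¹) := by
    intro c hc
    obtain ⟨hcE, hcw⟩ := Subgroup.mem_inf.1 hc
    rw [Subgroup.mem_centralizer_singleton_iff] at hcw
    have hyz : (g * c * g⁻¹) * z = z * (g * c * g⁻¹) := by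
      calc g * c * g⁻¹ * z = g * (c * w) * g⁻¹ := by rw [hw]; group
        _ = z * (g * c * g⁻¹) := by rw [hcw, hw]; group
    have hyz' : (g * c * g⁻¹) * z' = z' * (g * c * g⁻¹) := by
      calc g * c * g⁻¹ * z' = g * (c * z) * g⁻¹ := by rw [hz']; group
        _ = z' * (g * c * g⁻¹) := by rw [h.le_cent c hcE, hz']; group
    refine ⟨hyz, fun u hu => ?_⟩
    set y := g * c * g⁻¹ with hy
    have hyE' : g⁻¹ * y * g ∈ E := by rw [hy]; convert hcE using 1; group
    have hyi : y⁻¹ * z = z * y⁻¹ := (Commute.inv_left (show Commute y z from hyz)).eq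
    have hk : u⁻¹ * (y⁻¹ * u * y) = 1 := by
      refine hA1 _ ⟨mem_stab_iff_commute.2 ⟨mul_mem (inv_mem (stab_le g hu)) ?_, ?_⟩, ?_⟩
      · have := h.normal y⁻¹ hyi u (stab_le g hu)
        rwa [inv_inv] at this
      · exact (Commute.mul_left (Commute.inv_left (hUz u hu))
          (Commute.mul_left (Commute.mul_left (Commute.inv_left hyz') (hUz u hu)) hyz')).eq
      · have := mul_mem (hUnorm u⁻¹ (inv_mem hu) y⁻¹ (by convert inv_mem hyE' using 1; group)) hyE'
        convert this using 1
        group
    calc y * u = y * u * (u⁻¹ * (y⁻¹ * u * y)) := by rw [hk, mul_one]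
      _ = u * y := by group
  -- count
  let Φ : C × Bool → G := fun p => (g * p.1 * g⁻¹) * (if p.2 then z else 1)
  have hΦinj : Function.Injective Φ := by
    rintro ⟨c, b⟩ ⟨c', b'⟩ e
    have key : ∀ c c' : C, g * c * g⁻¹ = g * c' * g⁻¹ * z → False := by
      intro c c' e
      apply hzE'
      have h1 := mul_mem (inv_mem (Subgroup.mem_inf.1 c'.2).1) (Subgroup.mem_inf.1 c.2).1
      convert h1 using 1
      rw [show (c : G) = g⁻¹ * (g * c * g⁻¹) * g by group, e, hw]
      group
    cases b <;> cases b' <;> simp only [Φ, Bool.false_eq_true, if_false, if_true, mul_one] at e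
    · exact Prod.ext (Subtype.ext (mul_left_cancel (mul_right_cancel e))) rfl
    · exact (key c c' e).elim
    · exact (key c' c e.symm).elim
    · exact Prod.ext (Subtype.ext (mul_left_cancel (mul_right_cancel (mul_right_cancel e)))) rfl
  have hΦ : ∀ p, (∀ u ∈ U, Φ p * u = u * Φ p) ∧ Φ p * z = z * Φ p := by
    rintro ⟨c, b⟩
    obtain ⟨h1, h2⟩ := hW c c.2
    have hb : ∀ u ∈ E, (if b then z else 1 : G) * u = u * (if b then z else 1) := fun u hu => by
      cases b
      · simp
      · simp [h.le_cent u hu]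
    exact ⟨fun u hu => (Commute.mul_left (h2 u hu) (hb u (stab_le g hu))).eq,
      (Commute.mul_left h1 (hb z h.mem)).eq⟩
  -- the centre of `U` has order at most four
  obtain ⟨v, hv⟩ : ∃ v : G, ∀ d ∈ U, (∀ u ∈ U, d * u = u * d) → d = 1 ∨ d = z ∨ d = v ∨ d = v * z := by
    by_cases hex : ∃ v ∈ U, (∀ u ∈ U, v * u = u * v) ∧ v * t ≠ t * v
    · obtain ⟨v, hvU, hvc, hvt⟩ := hex
      refine ⟨v, fun d hd hdc => ?_⟩
      by_cases e : d * t = t * d
      · rcases h.center d (stab_le g hd) (hfix d hdc e) with e' | e'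
        exacts [Or.inl e', Or.inr (Or.inl e')]
      have e1 := (h.comm_z_left (stab_le g hd) htE).resolve_left e
      have e2 := (h.comm_z_left (stab_le g hvU) htE).resolve_left hvt
      have e3 : (v⁻¹ * d) * t = t * (v⁻¹ * d) := by
        calc v⁻¹ * d * t = v⁻¹ * (t * d * z) := by rw [mul_assoc, e1]
          _ = v⁻¹ * (t * z * d) := by rw [mul_assoc t d z, h.le_cent d (stab_le g hd), ← mul_assoc t z d]
          _ = v⁻¹ * ((v * t) * (v⁻¹ * d)) := by
            rw [e2, mul_assoc t v z, h.le_cent v (stab_le g hvU)]; group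
          _ = t * (v⁻¹ * d) := by group
      rcases h.center _ (mul_mem (inv_mem (stab_le g hvU)) (stab_le g hd)) (hfix _ (fun u hu =>
        (Commute.mul_left (Commute.inv_left (hvc u hu)) (hdc u hu)).eq) e3) with e4 | e4
      · exact Or.inr (Or.inr (Or.inl (inv_mul_eq_one.1 e4).symm))
      · exact Or.inr (Or.inr (Or.inr (inv_mul_eq_iff_eq_mul.1 e4)))
    · push Not at hex
      refine ⟨1, fun d hd hdc => ?_⟩
      rcases h.center d (stab_le g hd) (hfix d hdc (hex d hd hdc)) with e' | e'
      exacts [Or.inl e', Or.inr (Or.inl e')]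
  have : Fintype C := Fintype.ofFinite C
  set L := (Finset.univ : Finset (C × Bool)) with hL
  have hval : ∀ p, t⁻¹ * (Φ p * t * (Φ p)⁻¹) ∈ ({1, z, v, v * z} : Finset G) := by
    intro p
    obtain ⟨hpU, hpz⟩ := hΦ p
    have hmE : Φ p * t * (Φ p)⁻¹ ∈ E := h.normal _ hpz t htE
    set d := t⁻¹ * (Φ p * t * (Φ p)⁻¹) with hd
    have hdU : d ∈ U := by
      rcases hsplit _ hmE with e | e
      · exfalso
        apply htU
        have : Φ p * t * (Φ p)⁻¹ = t := by
          calc Φ p * t * (Φ p)⁻¹ = (Φ p)⁻¹ * (Φ p * (Φ p * t * (Φ p)⁻¹)) := by group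
            _ = (Φ p)⁻¹ * ((Φ p * t * (Φ p)⁻¹) * Φ p) := by rw [hpU _ e]
            _ = t := by group
        rwa [this] at e
      · exact e
    have hdc : ∀ u ∈ U, d * u = u * d := by
      intro u hu
      obtain ⟨k, hk, hk'⟩ : ∃ k, t⁻¹ * u * t = u * k ∧ (k = 1 ∨ k = z) :=
        ⟨_, by group, h.comm u (stab_le g hu) t htE⟩
      have hkp : Φ p * k = k * Φ p := by
        rcases hk' with rfl | rfl
        · rw [mul_one, one_mul]
        · exact hpz
      have hkd : d * k = k * d := by
        rcases hk' with rfl | rfl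
        · rw [mul_one, one_mul]
        · exact h.le_cent d (stab_le g hdU)
      have h1 : d⁻¹ * (t⁻¹ * u * t) * d = u * k := by
        calc d⁻¹ * (t⁻¹ * u * t) * d = (t * d)⁻¹ * u * (t * d) := by group
          _ = (Φ p * t * (Φ p)⁻¹)⁻¹ * (Φ p * u * (Φ p)⁻¹) * (Φ p * t * (Φ p)⁻¹) := by
            rw [hpU u hu, mul_inv_cancel_right, hd, mul_inv_cancel_left]
          _ = Φ p * (t⁻¹ * u * t) * (Φ p)⁻¹ := by group
          _ = u * k := by rw [hk, ← mul_assoc, hpU u hu, mul_assoc u _ k, hkp]; group
      rw [hk] at h1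
      have h2 : d⁻¹ * u * d * k = u * k := by
        calc d⁻¹ * u * d * k = d⁻¹ * (u * k) * d := by rw [mul_assoc _ d k, hkd]; group
          _ = u * k := h1
      have h3 := mul_right_cancel h2
      rw [mul_assoc, inv_mul_eq_iff_eq_mul] at h3
      exact h3.symm
    rcases hv d hdU hdc with e | e | e | e <;> simp [e]
  let Δ : C × Bool → G := fun p => t⁻¹ * (Φ p * t * (Φ p)⁻¹)
  have hfib : ∀ y ∈ L.image Δ, (L.filter fun p => Δ p = y).card ≤ 2 := by
    intro y _
    rcases Finset.eq_empty_or_nonempty (L.filter fun p => Δ p = y) with h0 | ⟨p₀, hp₀⟩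
    · rw [h0]; exact Nat.zero_le _
    rw [← Finset.card_image_of_injective _ hΦinj]
    refine le_trans (Finset.card_le_card (t := {Φ p₀, Φ p₀ * z}) ?_) Finset.card_le_two
    intro x hx
    obtain ⟨p, hp, rfl⟩ := Finset.mem_image.1 hx
    have he : Δ p = Δ p₀ := (Finset.mem_filter.1 hp).2.trans (Finset.mem_filter.1 hp₀).2.symm
    have he' := mul_left_cancel he
    set q := (Φ p₀)⁻¹ * Φ p with hq
    have hqt : q * t = t * q := by
      calc q * t = (Φ p₀)⁻¹ * (Φ p * t * (Φ p)⁻¹) * Φ p := by rw [hq]; group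
        _ = t * q := by rw [he', hq]; group
    have hqU : ∀ u ∈ U, q * u = u * q := fun u hu =>
      (Commute.mul_left (Commute.inv_left ((hΦ p₀).1 u hu)) ((hΦ p).1 u hu)).eq
    have hqE := h.self_cent q (hfix q hqU hqt)
    rcases h.center q hqE (hfix q hqU hqt) with e | e
    · simp [(inv_mul_eq_one.1 e).symm]
    · simp [inv_mul_eq_iff_eq_mul.1 e]
  have h1 := Finset.card_le_mul_card_image L 2 hfib
  have h2 : (L.image Δ).card ≤ 4 := by
    refine le_trans (Finset.card_le_card (Finset.image_subset_iff.2 fun p _ => hval p)) Finset.card_le_four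
  rw [hL, Finset.card_univ, Fintype.card_prod, Fintype.card_bool, ← Nat.card_eq_fintype_card, ← hL] at h1
  omega

end CfsgLib.LargeExtra
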