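import Cfsg.Agent.Lib.LargeExtra.Setting
import Mathlib.Order.Preorder.Finite

/-!
# Quadratic refinements of a homomorphism on a subgroup of an extraspecial 2-group
-/

set_option autoImplicit false

namespace CfsgLib.LargeExtra

variable {G : Type*} [Group G] {z : G}

/-- A function on `A` with biadditive defect `β`, both killing `z` in the defect. -/
structure Refines (z : G) (U A : Subgroup G) (φ : G → ZMod 2) (f : G → ZMod 2)
    (β : G → G → ZMod 2) : Prop where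
  ext : ∀ u ∈ U, f u = φ u
  defect : ∀ a ∈ A, ∀ b ∈ A, f (a * b) = f a + f b + β a b
  left : ∀ a ∈ A, ∀ b ∈ A, ∀ c ∈ A, β (a * b) c = β a c + β b c
  right : ∀ a ∈ A, ∀ b ∈ A, ∀ c ∈ A, β a (b * c) = β a b + β a c
  kill : ∀ a ∈ A, ∀ u ∈ U, β a u = 0
  kill_z : z ∈ A → ∀ a ∈ A, β a z = 0 ∧ β z a = 0
  flat : (z ∈ U → φ z = 0) → (∀ a b, β a b = 0) ∧ (z ∈ A → f z = 0)

theorem Refines.one {U A : Subgroup G} {φ f : G → ZMod 2} {β : G → G → ZMod 2}
    (R : Refines z U A φ f β) {a : G} (ha : a ∈ A) : f 1 = 0 ∧ β a 1 = 0 ∧ β 1 a = 0 := by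
  have h1 := R.right a ha 1 A.one_mem 1 A.one_mem
  have h2 := R.left 1 A.one_mem 1 A.one_mem a ha
  have h3 := R.right 1 A.one_mem 1 A.one_mem 1 A.one_mem
  have h4 := R.defect 1 A.one_mem 1 A.one_mem
  rw [one_mul] at h1 h2 h3 h4
  have e : ∀ x : ZMod 2, x = x + x → x = 0 := by decide
  refine ⟨e _ ?_, e _ h1, e _ h2⟩
  linear_combination h4 + e _ h3

open Classical in
theorem refines_step {E : Subgroup G} (h : Setting z E) {U A : Subgroup G} (hUA : U ≤ A)
    (hAE : A ≤ E) {φ f : G → ZMod 2} {β : G → G → ZMod 2} (R : Refines z U A φ f β)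
    {t : G} (htE : t ∈ E) (htA : t ∉ A) (hz : z ∈ A ∨ t = z) :
    ∃ A' : Subgroup G, A < A' ∧ A' ≤ E ∧ ∃ f' β', Refines z U A' φ f' β' := by
  -- the values `{1, z}`
  have hzA_of : ∀ a ∈ A, ∀ k, k = a⁻¹ * t⁻¹ * a * t → k ∈ A ∧ (k = 1 ∨ k = z) := by
    intro a ha k hk
    rcases hz with hz | hz
    · rcases h.comm a (hAE ha) t htE with e | e <;> rw [← hk] at e <;> subst e
      · exact ⟨A.one_mem, Or.inl rfl⟩
      · exact ⟨hz, Or.inr rfl⟩
    · have : k = 1 := by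
        rw [hk, hz, mul_assoc _ a z, h.le_cent a (hAE ha), ← mul_assoc, inv_mul_cancel_right,
          inv_mul_cancel]
      exact ⟨this ▸ A.one_mem, Or.inl this⟩
  have htt : t * t ∈ A ∧ (t * t = 1 ∨ t * t = z) := by
    rcases hz with hz | hz
    · rcases h.sq t htE with e | e
      · exact ⟨e ▸ A.one_mem, Or.inl e⟩
      · exact ⟨e ▸ hz, Or.inr e⟩
    · have : t * t = 1 := by rw [hz, h.sq_one]
      exact ⟨this ▸ A.one_mem, Or.inl this⟩
  obtain ⟨httA, htt1⟩ := htt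
  -- central elements killed by the defect
  have hC : ∀ k, k ∈ A → (k = 1 ∨ k = z) → ∀ a ∈ A, β a k = 0 ∧ β k a = 0 ∧ k * a = a * k := by
    rintro k hk (rfl | rfl) a ha
    · exact ⟨(R.one ha).2.1, (R.one ha).2.2, by rw [one_mul, mul_one]⟩
    · exact ⟨(R.kill_z hk a ha).1, (R.kill_z hk a ha).2, (h.le_cent a (hAE ha)).symm⟩
  set K : G → G := fun a => a⁻¹ * t⁻¹ * a * t with hK
  have hKmem : ∀ a ∈ A, K a ∈ A ∧ (K a = 1 ∨ K a = z) := fun a ha => hzA_of a ha _ rfl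
  have hat : ∀ a, a * t = t * (a * K a) := fun a => by simp only [hK]; group
  have hKmul : ∀ a ∈ A, ∀ b ∈ A, K (a * b) = K a * K b := by
    intro a ha b hb
    have hc := (hC _ (hKmem a ha).1 (hKmem a ha).2 b⁻¹ (inv_mem hb)).2.2
    calc K (a * b) = b⁻¹ * K a * (t⁻¹ * b * t) := by simp only [hK]; group
      _ = K a * b⁻¹ * (t⁻¹ * b * t) := by rw [hc]
      _ = K a * K b := by simp only [hK]; group
  have hγ : ∀ a ∈ A, ∀ b ∈ A, f (K (a * b)) = f (K a) + f (K b) := by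
    intro a ha b hb
    rw [hKmul a ha b hb, R.defect _ (hKmem a ha).1 _ (hKmem b hb).1,
      (hC _ (hKmem b hb).1 (hKmem b hb).2 _ (hKmem a ha).1).1, add_zero]
  have hKC : ∀ k, k ∈ A → (k = 1 ∨ k = z) → f (K k) = 0 := by
    intro k hk hk1
    have : K k = 1 := by
      have hkt : k * t = t * k := by
        rcases hk1 with rfl | rfl
        · rw [one_mul, mul_one]
        · exact (h.le_cent t htE).symm
      simp only [hK]
      rw [mul_assoc, hkt]
      group
    rw [this, (R.one hk).1]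
  -- the bigger subgroup
  let A' : Subgroup G :=
    { carrier := {x | x ∈ A ∨ t⁻¹ * x ∈ A}
      one_mem' := Or.inl A.one_mem
      mul_mem' := by
        rintro x y (hx | hx) (hy | hy)
        · exact Or.inl (mul_mem hx hy)
        · refine Or.inr ?_
          have := mul_mem (mul_mem hx (hKmem x hx).1) hy
          convert this using 1
          simp only [hK]; group
        · exact Or.inr (by rw [← mul_assoc]; exact mul_mem hx hy)
        · refine Or.inl ?_
          have := mul_mem (mul_mem httA (mul_mem hx (hKmem _ hx).1)) hy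
          convert this using 1
          simp only [hK]; group
      inv_mem' := by
        rintro x (hx | hx)
        · exact Or.inl (inv_mem hx)
        · refine Or.inr ?_
          have h1 := inv_mem hx
          have := mul_mem (mul_mem h1 (hKmem _ h1).1) (inv_mem httA)
          convert this using 1
          simp only [hK]; group }
  have hmem : ∀ x, x ∈ A' ↔ (x ∈ A ∨ t⁻¹ * x ∈ A) := fun x => Iff.rfl
  let δ : G → ZMod 2 := fun x => if x ∈ A then 0 else 1
  let p : G → G := fun x => if x ∈ A then x else t⁻¹ * x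
  have hcases : ∀ x ∈ A', (∃ a ∈ A, x = a ∧ δ x = 0 ∧ p x = a) ∨
      (∃ a ∈ A, x = t * a ∧ δ x = 1 ∧ p x = a) := by
    intro x hx
    by_cases hxA : x ∈ A
    · exact Or.inl ⟨x, hxA, rfl, if_pos hxA, if_pos hxA⟩
    · exact Or.inr ⟨_, ((hmem x).1 hx).resolve_left hxA, by group, if_neg hxA, if_neg hxA⟩
  have htop : ∀ a ∈ A, δ (t * a) = 1 ∧ p (t * a) = a := by
    intro a ha
    have : t * a ∉ A := fun e => htA ((A.mul_mem_cancel_right ha).1 e)
    exact ⟨if_neg this, by simp only [p]; rw [if_neg this]; group⟩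
  have hbot : ∀ a ∈ A, δ a = 0 ∧ p a = a := fun a ha => ⟨if_pos ha, if_pos ha⟩
  let f' : G → ZMod 2 := fun x => f (p x)
  let β' : G → G → ZMod 2 := fun x y =>
    if x ∈ A' ∧ y ∈ A' then β (p x) (p y) + δ x * δ y * f (t * t) + δ y * f (K (p x)) else 0
  have hβ : ∀ x ∈ A', ∀ y ∈ A', β' x y = β (p x) (p y) + δ x * δ y * f (t * t) + δ y * f (K (p x)) :=
    fun x hx y hy => if_pos ⟨hx, hy⟩
  -- the shape of a product
  have hprod : ∀ x ∈ A', ∀ y ∈ A', δ (x * y) = δ x + δ y ∧ ∃ k, k ∈ A ∧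
      p (x * y) = k * p x * p y ∧ (∀ a ∈ A, β a k = 0 ∧ β k a = 0) ∧ f (K k) = 0 ∧
      f k = δ x * δ y * f (t * t) + δ y * f (K (p x)) := by
    intro x hx y hy
    rcases hcases x hx with ⟨a, ha, hxa, hd, hp⟩ | ⟨a, ha, hxa, hd, hp⟩ <;>
      rcases hcases y hy with ⟨b, hb, hyb, hd', hp'⟩ | ⟨b, hb, hyb, hd', hp'⟩ <;>
      rw [hd, hd', hp, hp', hxa, hyb]
    · refine ⟨by rw [(hbot _ (mul_mem ha hb)).1]; ring, 1, A.one_mem, ?_,
        fun c hc => ⟨(R.one hc).2.1, (R.one hc).2.2⟩, hKC 1 A.one_mem (Or.inl rfl), ?_⟩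
      · rw [(hbot _ (mul_mem ha hb)).2, one_mul]
      · rw [(R.one ha).1]; ring
    · obtain ⟨hk, hk1⟩ := hKmem a ha
      have e : a * (t * b) = t * (K a * a * b) := by
        rw [(hC _ hk hk1 a ha).2.2, ← mul_assoc, hat]; simp only [mul_assoc]
      have hm : K a * a * b ∈ A := mul_mem (mul_mem hk ha) hb
      refine ⟨by rw [e, (htop _ hm).1]; ring, K a, hk, by rw [e, (htop _ hm).2],
        fun c hc => ⟨(hC _ hk hk1 c hc).1, (hC _ hk hk1 c hc).2.1⟩, hKC _ hk hk1, by ring⟩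
    · have e : t * a * b = t * (a * b) := mul_assoc _ _ _
      refine ⟨by rw [e, (htop _ (mul_mem ha hb)).1]; ring, 1, A.one_mem, ?_,
        fun c hc => ⟨(R.one hc).2.1, (R.one hc).2.2⟩, hKC 1 A.one_mem (Or.inl rfl), ?_⟩
      · rw [e, (htop _ (mul_mem ha hb)).2, one_mul]
      · rw [(R.one ha).1]; ring
    · obtain ⟨hk, hk1⟩ := hKmem a ha
      have e : t * a * (t * b) = t * t * K a * a * b := by
        rw [mul_assoc (t * t) (K a) a, (hC _ hk hk1 a ha).2.2, mul_assoc t a (t * b), ← mul_assoc a t b, hat]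
        simp only [mul_assoc]
      have hm : t * t * K a * a * b ∈ A := mul_mem (mul_mem (mul_mem httA hk) ha) hb
      refine ⟨by rw [e, (hbot _ hm).1]; decide, t * t * K a, mul_mem httA hk, by rw [e, (hbot _ hm).2],
        fun c hc => ⟨?_, ?_⟩, ?_, ?_⟩
      · rw [R.right c hc _ httA _ hk, (hC _ httA htt1 c hc).1, (hC _ hk hk1 c hc).1, add_zero]
      · rw [R.left _ httA _ hk c hc, (hC _ httA htt1 c hc).2.1, (hC _ hk hk1 c hc).2.1, add_zero]
      · rw [hγ _ httA _ hk, hKC _ httA htt1, hKC _ hk hk1, add_zero]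
      · rw [R.defect _ httA _ hk, (hC _ hk hk1 _ httA).1]; ring
  have hpA : ∀ x ∈ A', p x ∈ A := fun x hx => by
    rcases hcases x hx with ⟨a, ha, -, -, hp⟩ | ⟨a, ha, -, -, hp⟩ <;> rw [hp] <;> exact ha
  refine ⟨A', ⟨fun x hx => Or.inl hx, fun hle => htA (hle (Or.inr (by simp)))⟩, ?_, f', β', ?_⟩
  · intro x hx
    rcases hcases x hx with ⟨a, ha, rfl, -, -⟩ | ⟨a, ha, rfl, -, -⟩
    · exact hAE ha
    · exact mul_mem htE (hAE ha)
  refine ⟨fun u hu => ?_, fun x hx y hy => ?_, fun x hx y hy w hw => ?_, fun x hx y hy w hw => ?_,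
    fun x hx u hu => ?_, fun _ x hx => ?_, fun hφ => ?_⟩
  · show f (p u) = φ u
    rw [(hbot u (hUA hu)).2, R.ext u hu]
  · obtain ⟨-, k, hk, hp, hk0, -, hfk⟩ := hprod x hx y hy
    have hpx := hpA x hx
    have hpy := hpA y hy
    show f (p (x * y)) = f (p x) + f (p y) + β' x y
    rw [hp, hβ x hx y hy, R.defect _ (mul_mem hk hpx) _ hpy, R.defect _ hk _ hpx,
      R.left _ hk _ hpx _ hpy, (hk0 _ hpx).2, (hk0 _ hpy).2, hfk]
    ring
  · obtain ⟨hd, k, hk, hp, hk0, hKk, -⟩ := hprod x hx y hy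
    have hpx := hpA x hx
    have hpy := hpA y hy
    have hpw := hpA w hw
    rw [hβ _ (mul_mem hx hy) w hw, hβ x hx w hw, hβ y hy w hw, hp, hd,
      R.left _ (mul_mem hk hpx) _ hpy _ hpw, R.left _ hk _ hpx _ hpw, (hk0 _ hpw).2,
      hγ _ (mul_mem hk hpx) _ hpy, hγ _ hk _ hpx, hKk]
    ring
  · obtain ⟨hd, k, hk, hp, hk0, -, -⟩ := hprod y hy w hw
    have hpx := hpA x hx
    have hpy := hpA y hy
    have hpw := hpA w hw
    rw [hβ x hx _ (mul_mem hy hw), hβ x hx y hy, hβ x hx w hw, hp, hd,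
      R.right _ hpx _ (mul_mem hk hpy) _ hpw, R.right _ hpx _ hk _ hpy, (hk0 _ hpx).1]
    ring
  · have hu' : u ∈ A' := Or.inl (hUA hu)
    rw [hβ x hx u hu', (hbot u (hUA hu)).1, (hbot u (hUA hu)).2, R.kill _ (hpA x hx) u hu]
    ring
  · have hpx := hpA x hx
    rcases hz with hz | hz
    · have hz' : z ∈ A' := Or.inl hz
      rw [hβ x hx z hz', hβ z hz' x hx, (hbot z hz).1, (hbot z hz).2,
        (R.kill_z hz _ hpx).1, (R.kill_z hz _ hpx).2, hKC z hz (Or.inr rfl)]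
      constructor <;> ring
    · subst hz
      have hc : f (t * t) = 0 := by rw [h.sq_one, (R.one hpx).1]
      have hk : f (K (p x)) = 0 := by
        have : K (p x) = 1 := by
          simp only [hK]
          rw [mul_assoc _ (p x) t, h.le_cent _ (hAE hpx)]
          group
        rw [this, (R.one hpx).1]
      have hz' : t ∈ A' := Or.inr (by simp)
      have ht1 := htop 1 A.one_mem
      rw [mul_one] at ht1
      rw [hβ x hx t hz', hβ t hz' x hx, ht1.1, ht1.2, hc, hk, hKC 1 A.one_mem (Or.inl rfl),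
        (R.one hpx).2.1, (R.one hpx).2.2]
      constructor <;> ring
  · obtain ⟨h0, hfz⟩ := R.flat hφ
    have hval : ∀ k, k ∈ A → (k = 1 ∨ k = z) → f k = 0 := by
      rintro k hk (rfl | rfl)
      · exact (R.one hk).1
      · exact hfz hk
    refine ⟨fun a b => ?_, fun _ => ?_⟩
    · simp only [β']
      split_ifs with hab
      · rw [h0, hval _ httA htt1, hval _ (hKmem _ (hpA a hab.1)).1 (hKmem _ (hpA a hab.1)).2]
        ring
      · rfl
    · show f (p z) = 0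
      rcases hz with hz | hz
      · rw [(hbot z hz).2, hfz hz]
      · subst hz
        have := (htop 1 A.one_mem).2
        rw [mul_one] at this
        rw [this, (R.one A.one_mem).1]

theorem exists_refines [Finite G] {E : Subgroup G} (h : Setting z E) {U : Subgroup G} (hUE : U ≤ E)
    {φ : G → ZMod 2} (hφ : ∀ a ∈ U, ∀ b ∈ U, φ (a * b) = φ a + φ b) :
    ∃ f β, Refines z U E φ f β ∧ ((∀ u ∈ U, φ u = 0) → ∀ a, f a = 0) := by
  by_cases h0 : ∀ u ∈ U, φ u = 0
  · refine ⟨fun _ => 0, fun _ _ => 0, ⟨fun u hu => (h0 u hu).symm, ?_, ?_, ?_, ?_, ?_, ?_⟩, fun _ _ => rfl⟩ <;>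
      simp
  obtain ⟨A, ⟨hUA, hAE, f, β, R⟩, hmax⟩ :=
    (Set.toFinite {A : Subgroup G | U ≤ A ∧ A ≤ E ∧ ∃ f β, Refines z U A φ f β}).exists_maximal
      ⟨U, le_rfl, hUE, φ, fun _ _ => 0, fun _ _ => rfl, fun a ha b hb => by rw [hφ a ha b hb, add_zero],
        by simp, by simp, fun _ _ _ _ => rfl, fun _ _ _ => ⟨rfl, rfl⟩, fun hz => ⟨fun _ _ => rfl, hz⟩⟩
  by_cases hAE' : A = E
  · exact ⟨f, β, hAE' ▸ R, fun e => absurd e h0⟩
  obtain ⟨t, htE, htA, hz⟩ : ∃ t ∈ E, t ∉ A ∧ (z ∈ A ∨ t = z) := by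
    by_cases hzA : z ∈ A
    · obtain ⟨t, ht, ht'⟩ := SetLike.exists_of_lt (lt_of_le_of_ne hAE hAE')
      exact ⟨t, ht, ht', Or.inl hzA⟩
    · exact ⟨z, h.mem, hzA, Or.inr rfl⟩
  obtain ⟨A', hlt, hA'E, hR⟩ := refines_step h hUA hAE R htE htA hz
  exact absurd (hmax ⟨hUA.trans hlt.le, hA'E, hR⟩ hlt.le) (not_le_of_gt hlt)

end CfsgLib.LargeExtra
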