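import Mathlib.GroupTheory.Sylow
import Mathlib.GroupTheory.GroupAction.Basic
import Mathlib.GroupTheory.Index
import Mathlib.Data.ZMod.Basic
import Mathlib.Algebra.CharP.Two
import Mathlib.Tactic.LinearCombination
import Mathlib.Tactic.Ring

/-!
# Parity of sums of low degree functions over orbits of 2-groups
-/

set_option autoImplicit false

namespace CfsgLib.LargeExtra

open MulAction

variable {G X : Type*} [Group G] [MulAction G X]

theorem zadd_self (a : ZMod 2) : a + a = 0 := CharTwo.add_self_eq_zero a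

section Orbit

variable [Fintype X]

open Classical in
/-- The orbit of a point under a subgroup. -/
noncomputable def orb (A : Subgroup G) (r : X) : Finset X :=
  Finset.univ.filter fun q => ∃ a ∈ A, a • r = q

theorem mem_orb {A : Subgroup G} {r q : X} : q ∈ orb A r ↔ ∃ a ∈ A, a • r = q := by
  simp [orb]

theorem self_mem_orb (A : Subgroup G) (r : X) : r ∈ orb A r := mem_orb.2 ⟨1, A.one_mem, one_smul G r⟩

theorem smul_mem_orb {A : Subgroup G} (r : X) {a : G} (ha : a ∈ A) : a • r ∈ orb A r :=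
  mem_orb.2 ⟨a, ha, rfl⟩

theorem orb_eq_of_mem {A : Subgroup G} {r q : X} (h : q ∈ orb A r) : orb A q = orb A r := by
  obtain ⟨a, ha, rfl⟩ := mem_orb.1 h
  ext s
  simp only [mem_orb]
  constructor
  · rintro ⟨b, hb, rfl⟩
    exact ⟨b * a, mul_mem hb ha, mul_smul b a r⟩
  · rintro ⟨b, hb, rfl⟩
    exact ⟨b * a⁻¹, mul_mem hb (inv_mem ha), by rw [mul_smul, inv_smul_smul]⟩

theorem card_orb_eq (A : Subgroup G) (r : X) :
    (orb A r).card = (stabilizer A r).index := by
  rw [index_stabilizer, ← Set.ncard_coe_finset]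
  congr 1
  ext q
  simp only [Finset.mem_coe, mem_orb, MulAction.mem_orbit_iff, Subtype.exists]
  exact ⟨fun ⟨a, ha, h⟩ => ⟨a, ha, h⟩, fun ⟨a, ha, h⟩ => ⟨a, ha, h⟩⟩

theorem card_orb_pow [Finite G] {A : Subgroup G} (hA : IsPGroup 2 A) (r : X) :
    ∃ n : ℕ, (orb A r).card = 2 ^ n := by
  have := Fact.mk Nat.prime_two
  rw [card_orb_eq]
  exact hA.index _

theorem card_orb_pos (A : Subgroup G) (r : X) : 0 < (orb A r).card :=
  Finset.card_pos.2 ⟨r, self_mem_orb A r⟩

/-- An orbit of size at least two splits along a subgroup of index two. -/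
theorem exists_split [Finite G] {A : Subgroup G} (hA : IsPGroup 2 A) (r : X)
    (h : 1 < (orb A r).card) :
    ∃ (B : Subgroup G) (t : G), B ≤ A ∧ t ∈ A ∧ (orb A r).card = 2 * (orb B r).card ∧
      ∀ F : X → ZMod 2, ∑ q ∈ orb A r, F q = ∑ q ∈ orb B r, (F q + F (t • q)) := by
  classical
  have := Fact.mk Nat.prime_two
  obtain ⟨N, hN⟩ := IsPGroup.iff_card.1 hA
  obtain ⟨m, hm⟩ := IsPGroup.iff_card.1 (hA.to_subgroup (stabilizer A r))
  have hidx := (stabilizer A r).card_mul_index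
  rw [hm, hN, ← card_orb_eq] at hidx
  have hmN : m < N := by
    rw [← Nat.pow_lt_pow_iff_right (show 1 < 2 by norm_num), ← hidx]
    exact lt_mul_of_one_lt_right (pow_pos two_pos _) h
  obtain ⟨K, hK, hSK⟩ := Sylow.exists_subgroup_card_pow_prime_le 2 (n := m) (m := N - 1)
    (hN ▸ pow_dvd_pow 2 (Nat.sub_le N 1)) (stabilizer A r) hm (by omega)
  have hK2 : K.index = 2 := by
    have h1 := K.card_mul_index
    rw [hK, hN] at h1
    have : 2 ^ N = 2 ^ (N - 1) * 2 := by rw [← pow_succ]; congr 1; omega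
    rw [this] at h1
    exact Nat.eq_of_mul_eq_mul_left (pow_pos two_pos _) h1
  obtain ⟨t, htK, ht⟩ := Subgroup.index_eq_two_iff_exists_notMem_and'.1 hK2
  set B := K.map A.subtype with hB
  have hBA : B ≤ A := Subgroup.map_subtype_le K
  have memB : ∀ x : A, (x : G) ∈ B ↔ x ∈ K := fun x =>
    Subgroup.mem_map_iff_mem A.subtype_injective
  have htA : ((t⁻¹ : A) : G) ∈ A := (t⁻¹).2
  have hunion : orb A r = orb B r ∪ (orb B r).image (fun q => ((t⁻¹ : A) : G) • q) := by
    ext q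
    simp only [Finset.mem_union, Finset.mem_image, mem_orb]
    constructor
    · rintro ⟨a, ha, rfl⟩
      rcases ht ⟨a, ha⟩ with h1 | h1
      · refine Or.inr ⟨((t * ⟨a, ha⟩ : A) : G) • r, ⟨_, (memB _).2 h1, rfl⟩, ?_⟩
        rw [← mul_smul, ← Subgroup.coe_mul, inv_mul_cancel_left]
      · exact Or.inl ⟨a, (memB ⟨a, ha⟩).2 h1, rfl⟩
    · rintro (⟨a, ha, rfl⟩ | ⟨_, ⟨a, ha, rfl⟩, rfl⟩)
      · exact ⟨a, hBA ha, rfl⟩
      · exact ⟨_, mul_mem htA (hBA ha), mul_smul _ a r⟩
  have hdisj : Disjoint (orb B r) ((orb B r).image (fun q => ((t⁻¹ : A) : G) • q)) := by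
    rw [Finset.disjoint_left]
    intro q hq hq'
    obtain ⟨a, ha, rfl⟩ := mem_orb.1 hq
    obtain ⟨q', hq'', he⟩ := Finset.mem_image.1 hq'
    obtain ⟨b, hb, rfl⟩ := mem_orb.1 hq''
    have hstab : (⟨a, hBA ha⟩ : A)⁻¹ * (t⁻¹ * ⟨b, hBA hb⟩) ∈ stabilizer A r := by
      rw [mem_stabilizer_iff]
      show ((a⁻¹ * (((t⁻¹ : A) : G) * b)) • r) = r
      rw [mul_smul, mul_smul, he, inv_smul_smul]
    have h1 := hSK hstab
    have ha' : (⟨a, hBA ha⟩ : A) ∈ K := (memB _).1 ha
    have hb' : (⟨b, hBA hb⟩ : A) ∈ K := (memB _).1 hb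
    rw [K.mul_mem_cancel_left (inv_mem ha'), K.mul_mem_cancel_right hb', inv_mem_iff] at h1
    exact htK h1
  have hinj : Function.Injective (fun q : X => ((t⁻¹ : A) : G) • q) := MulAction.injective _
  refine ⟨B, ((t⁻¹ : A) : G), hBA, htA, ?_, fun F => ?_⟩
  · rw [hunion, Finset.card_union_of_disjoint hdisj, Finset.card_image_of_injective _ hinj, two_mul]
  · rw [hunion, Finset.sum_union hdisj, Finset.sum_image fun a _ b _ h => hinj h,
      Finset.sum_add_distrib]

/-- Affine functions sum to zero over orbits of size divisible by four. -/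
theorem sum_orb_linear [Finite G] {A : Subgroup G} (hA : IsPGroup 2 A) (r : X)
    (hcard : 4 ≤ (orb A r).card) (K : X → ZMod 2) (c : ZMod 2) (χ : G → ZMod 2)
    (hχ : ∀ a ∈ A, ∀ b ∈ A, χ (a * b) = χ a + χ b) (hK : ∀ a ∈ A, K (a • r) = c + χ a) :
    ∑ q ∈ orb A r, K q = 0 := by
  obtain ⟨B, t, hBA, ht, hc, hsum⟩ := exists_split hA r (by omega)
  obtain ⟨n, hn⟩ := card_orb_pow (hA.to_le hBA) r
  rw [hsum, Finset.sum_congr rfl (g := fun _ => χ t) fun q hq => ?_]
  · rw [Finset.sum_const, hn]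
    cases n with
    | zero => rw [pow_zero] at hn; omega
    | succ n => rw [pow_succ, mul_smul, two_nsmul, zadd_self, smul_zero]
  · obtain ⟨b, hb, rfl⟩ := mem_orb.1 hq
    rw [← mul_smul, hK b (hBA hb), hK _ (mul_mem ht (hBA hb)), hχ t ht b (hBA hb)]
    linear_combination zadd_self c + zadd_self (χ b)

/-- Quadratic functions sum to zero over orbits of size divisible by eight. -/
theorem sum_orb_quadratic [Finite G] {A : Subgroup G} (hA : IsPGroup 2 A) (r : X)
    (hcard : 8 ≤ (orb A r).card) (K : X → ZMod 2) (γ : G → G → ZMod 2)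
    (hγ : ∀ a ∈ A, ∀ b ∈ A, ∀ c ∈ A, γ a (b * c) = γ a b + γ a c)
    (hK : ∀ a ∈ A, ∀ b ∈ A, K ((a * b) • r) = K (a • r) + K (b • r) + K r + γ a b) :
    ∑ q ∈ orb A r, K q = 0 := by
  obtain ⟨B, t, hBA, ht, hc, hsum⟩ := exists_split hA r (by omega)
  rw [hsum]
  refine sum_orb_linear (hA.to_le hBA) r (by omega) _ (K (t • r) + K r) (γ t)
    (fun a ha b hb => hγ t ht a (hBA ha) b (hBA hb)) fun a ha => ?_
  rw [← mul_smul, hK t ht a (hBA ha)]
  linear_combination zadd_self (K (a • r))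

end Orbit

end CfsgLib.LargeExtra
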