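import Cfsg.Prelude.Def_Transfer
import Cfsg.Agent.Lib.LargeExtra.Sum
import Cfsg.Agent.Lib.PGroup.Basic
import Mathlib.GroupTheory.GroupAction.ConjAct
import Mathlib.Tactic.Group

/-!
# An involution centralizer with a self-centralizing normal extraspecial 2-subgroup
-/

set_option autoImplicit false

namespace CfsgLib.LargeExtra

variable {G : Type*} [Group G]

/-- The facts about `E ⊴ C(z)` that are used. -/
structure Setting (z : G) (E : Subgroup G) : Prop where
  ne_one : z ≠ 1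
  sq_one : z * z = 1
  mem : z ∈ E
  two : IsPGroup 2 E
  le_cent : ∀ e ∈ E, e * z = z * e
  center : ∀ a ∈ E, (∀ b ∈ E, a * b = b * a) → a = 1 ∨ a = z
  sq : ∀ a ∈ E, a * a = 1 ∨ a * a = z
  comm : ∀ a ∈ E, ∀ b ∈ E, a⁻¹ * b⁻¹ * a * b = 1 ∨ a⁻¹ * b⁻¹ * a * b = z
  normal : ∀ h : G, h * z = z * h → ∀ e ∈ E, h * e * h⁻¹ ∈ E
  self_cent : ∀ g : G, (∀ e ∈ E, g * e = e * g) → g ∈ E

theorem mem_centralizer_z {z g : G} :
    g ∈ Subgroup.centralizer ({z} : Set G) ↔ g * z = z * g := by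
  rw [Subgroup.mem_centralizer_singleton_iff]

theorem setting_of_extraspecial [Finite G] {z : G} (hz : orderOf z = 2) {E : Subgroup G}
    (hle : E ≤ Subgroup.centralizer ({z} : Set G))
    (hn : ∀ h : G, h * z = z * h → ∀ e ∈ E, h * e * h⁻¹ ∈ E)
    (hext : Cfsg.IsExtraspecial 2 E) (hcent : Subgroup.centralizer (E : Set G) ≤ E) :
    Setting z E := by
  have hz1 : z ≠ 1 := fun h => by rw [h, orderOf_one] at hz; omega
  have hz2 : z * z = 1 := by
    have := pow_orderOf_eq_one z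
    rwa [hz, pow_two] at this
  have hze : ∀ e ∈ E, e * z = z * e := fun e he => mem_centralizer_z.1 (hle he)
  have hzE : z ∈ E := hcent (Subgroup.mem_centralizer_iff.2 fun e he => hze e he)
  have hzc : (⟨z, hzE⟩ : E) ∈ Subgroup.center E :=
    Subgroup.mem_center_iff.2 fun e => Subtype.ext (hze e e.2)
  have hcen : ∀ x : E, x ∈ Subgroup.center E → (x : G) = 1 ∨ (x : G) = z := by
    intro x hx
    by_contra hne
    push Not at hne
    obtain ⟨u, v, -, huv⟩ := Nat.card_eq_two_iff.1 hext.2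
    have h1 : ∀ a : Subgroup.center E, a = u ∨ a = v := fun a => by
      have := huv.ge (Set.mem_univ a)
      simpa using this
    have k1 : (⟨x, hx⟩ : Subgroup.center E) ≠ 1 := fun h => hne.1 (congrArg Subtype.val (congrArg Subtype.val h))
    have k2 : (⟨x, hx⟩ : Subgroup.center E) ≠ ⟨_, hzc⟩ := fun h => hne.2 (congrArg Subtype.val (congrArg Subtype.val h))
    have k3 : (1 : Subgroup.center E) ≠ ⟨_, hzc⟩ := fun h => hz1 (congrArg Subtype.val (congrArg Subtype.val h)).symm
    rcases h1 ⟨x, hx⟩ with a | a <;> rcases h1 1 with b | b <;> rcases h1 ⟨_, hzc⟩ with c | c <;>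
      first
        | exact k1 (a.trans b.symm)
        | exact k2 (a.trans c.symm)
        | exact k3 (b.trans c.symm)
  refine ⟨hz1, hz2, hzE, hext.1.1, hze, fun a ha h => hcen ⟨a, ha⟩
    (Subgroup.mem_center_iff.2 fun e => Subtype.ext (h e e.2).symm), fun a ha => ?_, fun a ha b hb => ?_,
    hn, fun g hg => hcent (Subgroup.mem_centralizer_iff.2 fun e he => (hg e he).symm)⟩
  · refine hcen (⟨a, ha⟩ * ⟨a, ha⟩) ?_
    rw [← hext.1.2.1]
    rw [← pow_two]
    exact CfsgLib.PGroup.pow_mem_frattini hext.1.1 _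
  · refine hcen (⟨a, ha⟩⁻¹ * ⟨b, hb⟩⁻¹ * ⟨a, ha⟩ * ⟨b, hb⟩) ?_
    rw [← hext.1.2.2]
    have h1 := Subgroup.commutator_mem_commutator (Subgroup.mem_top (⟨a, ha⟩ : E)⁻¹)
      (Subgroup.mem_top (⟨b, hb⟩ : E)⁻¹)
    rwa [commutatorElement_def, inv_inv, inv_inv] at h1

namespace Setting

variable {z : G} {E : Subgroup G} (h : Setting z E)
include h

theorem inv_z : z⁻¹ = z := inv_eq_of_mul_eq_one_right h.sq_one

theorem comm_z_left {a b : G} (ha : a ∈ E) (hb : b ∈ E) :
    a * b = b * a ∨ a * b = b * a * z := by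
  rcases h.comm a ha b hb with h1 | h1
  · exact Or.inl (by
      calc a * b = b * a * (a⁻¹ * b⁻¹ * a * b) := by group
        _ = b * a := by rw [h1, mul_one])
  · exact Or.inr (by
      calc a * b = b * a * (a⁻¹ * b⁻¹ * a * b) := by group
        _ = b * a * z := by rw [h1])

end Setting

end CfsgLib.LargeExtra
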