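import Cfsg.Agent.Lib.LargeExtra.Facts
import Mathlib.GroupTheory.QuotientGroup.Basic
import Mathlib.Data.Fintype.Perm
import Mathlib.GroupTheory.Perm.Basic

/-!
# Centralizers with an extraspecial subgroup of order eight
-/

set_option autoImplicit false

namespace CfsgLib.LargeExtra

open scoped commutatorElement

variable {G : Type*} [Group G] [Finite G] {z : G} {E : Subgroup G}

theorem five_le {K : Subgroup G} (a b : G) (ha : a ∈ K) (hb : b ∈ K) (hne : a * b ≠ b * a) :
    5 ≤ Nat.card K := by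
  classical
  have ha1 : a ≠ 1 := fun e => hne (by rw [e, one_mul, mul_one])
  have hb1 : b ≠ 1 := fun e => hne (by rw [e, one_mul, mul_one])
  have hab : a ≠ b := fun e => hne (by rw [e])
  have h1 : a * b ≠ 1 := fun e => hne (by
    rw [e, eq_comm, mul_eq_one_iff_eq_inv, eq_inv_of_mul_eq_one_left e, inv_inv])
  have h2 : b * a ≠ 1 := fun e => hne (by
    rw [e, mul_eq_one_iff_eq_inv, eq_inv_of_mul_eq_one_left e, inv_inv])
  have hsub : ({1, a, b, a * b, b * a} : Finset G) ⊆ (K : Set G).toFinite.toFinset := by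
    intro x hx
    simp only [Finset.mem_insert, Finset.mem_singleton] at hx
    rw [Set.Finite.mem_toFinset, SetLike.mem_coe]
    rcases hx with rfl | rfl | rfl | rfl | rfl
    exacts [K.one_mem, ha, hb, mul_mem ha hb, mul_mem hb ha]
  have := Finset.card_le_card hsub
  rw [← Set.ncard_eq_toFinset_card, ← Nat.card_coe_set_eq] at this
  refine le_trans (le_of_eq ?_) this
  simp [ha1.symm, hb1.symm, hab, h1.symm, h2.symm, hne, ha1, hb1, Ne.symm hab]

variable (hE8 : Nat.card E = 8)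
include hE8

theorem exists_noncommuting (h : Setting z E) : ∃ a ∈ E, ∃ b ∈ E, a * b ≠ b * a := by
  by_contra hcon
  push Not at hcon
  have : (E : Set G).toFinite.toFinset.card ≤ 2 := by
    classical
    refine le_trans (Finset.card_le_card (t := {1, z}) fun x hx => ?_) Finset.card_le_two
    rw [Set.Finite.mem_toFinset, SetLike.mem_coe] at hx
    rcases h.center x hx (hcon x hx) with e | e <;> simp [e]
  rw [← Set.ncard_eq_toFinset_card, ← Nat.card_coe_set_eq] at this
  change Nat.card E ≤ 2 at this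
  omega

theorem eq_of_five {K : Subgroup G} (hKE : K ≤ E) (h5 : 5 ≤ Nat.card K) : K = E := by
  have hd := Subgroup.card_dvd_of_le hKE
  rw [hE8] at hd
  refine Subgroup.eq_of_le_of_card_ge hKE ?_
  rw [hE8]
  have := Nat.le_of_dvd (by norm_num) hd
  revert hd h5 this
  generalize Nat.card K = m
  intro h5 hd hle
  interval_cases m <;> omega

/-- Elements acting trivially on `E/⟨z⟩` lie in `E`. -/
theorem mem_of_trivial (h : Setting z E) {g : G} (hg : g * z = z * g)
    (htriv : ∀ e ∈ E, g * e * g⁻¹ = e ∨ g * e * g⁻¹ = e * z) : g ∈ E := by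
  obtain ⟨a, ha, b, hb, hne⟩ := exists_noncommuting hE8 h
  have hba : b * a * b⁻¹ = a * z := by
    have e := (h.comm_z_left hb ha).resolve_left (Ne.symm hne)
    rw [e, mul_assoc a b z, h.le_cent b hb, ← mul_assoc, mul_inv_cancel_right]
  have hab : a * b * a⁻¹ = b * z := by
    have e := (h.comm_z_left ha hb).resolve_left hne
    rw [e, mul_assoc b a z, h.le_cent a ha, ← mul_assoc, mul_inv_cancel_right]
  have hzz : ∀ x ∈ E, x * z * x⁻¹ = z := fun x hx => by rw [h.le_cent x hx, mul_inv_cancel_right]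
  obtain ⟨w₁, hw₁, g₁, hg₁, hg₁a⟩ : ∃ w ∈ E, ∃ g₁, g₁ = w * g ∧ g₁ * a * g₁⁻¹ = a := by
    rcases htriv a ha with e | e
    · exact ⟨1, E.one_mem, g, (one_mul g).symm, e⟩
    · refine ⟨b, hb, b * g, rfl, ?_⟩
      calc b * g * a * (b * g)⁻¹ = b * (g * a * g⁻¹) * b⁻¹ := by group
        _ = (b * a * b⁻¹) * (b * z * b⁻¹) := by rw [e]; group
        _ = a := by rw [hba, hzz b hb, mul_assoc, h.sq_one, mul_one]
  have hw₁b : w₁ * b * w₁⁻¹ = b ∨ w₁ * b * w₁⁻¹ = b * z := by
    rcases h.comm_z_left hw₁ hb with e | e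
    · exact Or.inl (by rw [e, mul_inv_cancel_right])
    · exact Or.inr (by rw [e, mul_assoc b w₁ z, h.le_cent w₁ hw₁, ← mul_assoc, mul_inv_cancel_right])
  have hg₁b : g₁ * b * g₁⁻¹ = b ∨ g₁ * b * g₁⁻¹ = b * z := by
    have e0 : g₁ * b * g₁⁻¹ = w₁ * (g * b * g⁻¹) * w₁⁻¹ := by rw [hg₁]; group
    rw [e0]
    rcases htriv b hb with e | e <;> rw [e]
    · exact hw₁b
    · have : w₁ * (b * z) * w₁⁻¹ = (w₁ * b * w₁⁻¹) * (w₁ * z * w₁⁻¹) := by group
      rw [this, hzz w₁ hw₁]
      rcases hw₁b with e' | e' <;> rw [e']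
      · exact Or.inr rfl
      · exact Or.inl (by rw [mul_assoc, h.sq_one, mul_one])
  obtain ⟨w₂, hw₂, g₂, hg₂, hg₂a, hg₂b⟩ :
      ∃ w ∈ E, ∃ g₂, g₂ = w * g₁ ∧ g₂ * a * g₂⁻¹ = a ∧ g₂ * b * g₂⁻¹ = b := by
    rcases hg₁b with e | e
    · exact ⟨1, E.one_mem, g₁, (one_mul g₁).symm, hg₁a, e⟩
    · refine ⟨a, ha, a * g₁, rfl, ?_, ?_⟩
      · calc a * g₁ * a * (a * g₁)⁻¹ = a * (g₁ * a * g₁⁻¹) * a⁻¹ := by group
          _ = a := by rw [hg₁a, mul_inv_cancel_right]
      · calc a * g₁ * b * (a * g₁)⁻¹ = a * (g₁ * b * g₁⁻¹) * a⁻¹ := by group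
          _ = (a * b * a⁻¹) * (a * z * a⁻¹) := by rw [e]; group
          _ = b := by rw [hab, hzz a ha, mul_assoc, h.sq_one, mul_one]
  have hmem : ∀ x, g₂ * x * g₂⁻¹ = x → x ∈ Subgroup.centralizer ({g₂} : Set G) := fun x e =>
    Subgroup.mem_centralizer_singleton_iff.2 (mul_inv_eq_iff_eq_mul.1 e).symm
  have hK : E ⊓ Subgroup.centralizer ({g₂} : Set G) = E := eq_of_five hE8 inf_le_left
    (five_le a b ⟨ha, hmem a hg₂a⟩ ⟨hb, hmem b hg₂b⟩ hne)
  have hg₂E : g₂ ∈ E := h.self_cent g₂ fun e he =>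
    (Subgroup.mem_centralizer_singleton_iff.1 (hK.ge he).2).symm
  rw [hg₂, E.mul_mem_cancel_left hw₂, hg₁, E.mul_mem_cancel_left hw₁] at hg₂E
  exact hg₂E

/-- The induced action on `E/⟨z⟩` has order at most three. -/
theorem sq_or_cube_mem (h : Setting z E) {g : G} (hg : g * z = z * g) : g * g ∈ E ∨ g * g * g ∈ E := by
  classical
  have hg' : g⁻¹ * z = z * g⁻¹ := by rw [inv_mul_eq_iff_eq_mul, ← mul_assoc, hg, mul_inv_cancel_right]
  let σ : E → E := fun e => ⟨g * e * g⁻¹, h.normal g hg e e.2⟩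
  have hσinj : Function.Injective σ := fun e e' he =>
    Subtype.ext (mul_left_cancel (mul_right_cancel (congrArg Subtype.val he)))
  have hcen : ∀ x : E, x ∈ Subgroup.center E ↔ ((x : G) = 1 ∨ (x : G) = z) := by
    intro x
    constructor
    · exact fun hx => h.center x x.2 fun b hb =>
        (congrArg Subtype.val (Subgroup.mem_center_iff.1 hx ⟨b, hb⟩)).symm
    · rintro (e | e) <;> refine Subgroup.mem_center_iff.2 fun y => Subtype.ext ?_ <;>
        show (y : G) * x = x * y <;> rw [e]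
      · rw [mul_one, one_mul]
      · exact h.le_cent y y.2
  have hσc : ∀ x y : E, x⁻¹ * y ∈ Subgroup.center E → (σ x)⁻¹ * σ y ∈ Subgroup.center E := by
    intro x y hxy
    rw [hcen] at hxy ⊢
    have : (((σ x)⁻¹ * σ y : E) : G) = g * ((x⁻¹ * y : E) : G) * g⁻¹ := by
      show (g * x * g⁻¹)⁻¹ * (g * y * g⁻¹) = g * ((x : G)⁻¹ * y) * g⁻¹
      group
    rw [this]
    rcases hxy with e | e <;> rw [e]
    · exact Or.inl (by group)
    · exact Or.inr (by rw [hg, mul_inv_cancel_right])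
  have hfin : Nat.card (E ⧸ Subgroup.center E) = 4 := by
    have h1 := Subgroup.card_eq_card_quotient_mul_card_subgroup (Subgroup.center E)
    have h2 : Nat.card (Subgroup.center E) = 2 := by
      rw [Nat.card_eq_two_iff]
      refine ⟨1, ⟨⟨z, h.mem⟩, (hcen _).2 (Or.inr rfl)⟩, fun e => h.ne_one ?_, ?_⟩
      · exact (congrArg (fun x : Subgroup.center E => ((x : E) : G)) e).symm
      · ext x
        simp only [Set.mem_insert_iff, Set.mem_singleton_iff, Set.mem_univ, iff_true]
        rcases (hcen _).1 x.2 with e | e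
        · exact Or.inl (Subtype.ext (Subtype.ext e))
        · exact Or.inr (Subtype.ext (Subtype.ext e))
    rw [hE8, h2] at h1
    omega
  let τ : E ⧸ Subgroup.center E → E ⧸ Subgroup.center E :=
    Quotient.map' σ fun x y hxy => QuotientGroup.leftRel_apply.2 (hσc x y (QuotientGroup.leftRel_apply.1 hxy))
  have hτ : ∀ e : E, τ (e : E ⧸ Subgroup.center E) = ((σ e : E) : E ⧸ Subgroup.center E) := fun e => rfl
  have hτ1 : τ ((1 : E) : E ⧸ Subgroup.center E) = ((1 : E) : E ⧸ Subgroup.center E) := by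
    rw [hτ]; congr 1; exact Subtype.ext (by show g * 1 * g⁻¹ = 1; group)
  have hτsurj : Function.Surjective τ := by
    intro q
    obtain ⟨e, rfl⟩ := QuotientGroup.mk_surjective q
    exact ⟨((⟨g⁻¹ * e * g, by simpa using h.normal g⁻¹ hg' e e.2⟩ : E) : E ⧸ Subgroup.center E),
      by rw [hτ]; congr 1; exact Subtype.ext (by show g * (g⁻¹ * e * g) * g⁻¹ = e; group)⟩
  let T : Equiv.Perm (E ⧸ Subgroup.center E) := Equiv.ofBijective τ ⟨Finite.injective_iff_surjective.2 hτsurj, hτsurj⟩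
  have perm4 : ∀ p : Equiv.Perm (Fin 4), p 0 = 0 → (∀ i, p (p i) = i) ∨ (∀ i, p (p (p i)) = i) := by
    decide
  obtain ⟨e0⟩ : Nonempty ((E ⧸ Subgroup.center E) ≃ Fin 4) := by
    have e := Finite.equivFin (E ⧸ Subgroup.center E)
    rw [hfin] at e
    exact ⟨e⟩
  let e4 := e0.trans (Equiv.swap (e0 ((1 : E) : E ⧸ Subgroup.center E)) 0)
  have he1 : e4 ((1 : E) : E ⧸ Subgroup.center E) = 0 := by simp [e4]
  have hback : ∀ e : E, ∀ k : G, ((k * e * k⁻¹ = e) ∨ (k * e * k⁻¹ = e * z)) ↔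
      (∃ hk : k * e * k⁻¹ ∈ E, ((⟨_, hk⟩ : E) : E ⧸ Subgroup.center E) = (e : E ⧸ Subgroup.center E)) := by
    intro e k
    constructor
    · intro hh
      have hk : k * e * k⁻¹ ∈ E := by
        rcases hh with e' | e' <;> rw [e']
        · exact e.2
        · exact mul_mem e.2 h.mem
      refine ⟨hk, QuotientGroup.eq.2 ((hcen _).2 ?_)⟩
      show (k * e * k⁻¹)⁻¹ * (e : G) = 1 ∨ _
      rcases hh with e' | e'
      · exact Or.inl (by rw [e', inv_mul_cancel])
      · refine Or.inr ?_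
        show (k * e * k⁻¹)⁻¹ * (e : G) = z
        rw [e', mul_inv_rev, inv_mul_cancel_right, h.inv_z]
    · rintro ⟨hk, hq⟩
      have := (hcen _).1 (QuotientGroup.eq.1 hq.symm)
      change (e : G)⁻¹ * (k * e * k⁻¹) = 1 ∨ (e : G)⁻¹ * (k * e * k⁻¹) = z at this
      rcases this with e' | e'
      · exact Or.inl (inv_mul_eq_one.1 e').symm
      · exact Or.inr (inv_mul_eq_iff_eq_mul.1 e')
  have hT0 : (e4.symm.trans (T.trans e4)) 0 = 0 := by
    show e4 (τ (e4.symm 0)) = 0
    rw [← he1, Equiv.symm_apply_apply, hτ1]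
  rcases perm4 (e4.symm.trans (T.trans e4)) hT0 with hp | hp
  · left
    refine mem_of_trivial hE8 h (by rw [mul_assoc, hg, ← mul_assoc, hg, mul_assoc]) fun e he => ?_
    have := congrArg e4.symm (hp (e4 ((⟨e, he⟩ : E) : E ⧸ Subgroup.center E)))
    simp only [Equiv.trans_apply, Equiv.symm_apply_apply, T, Equiv.ofBijective_apply, hτ] at this
    refine (hback ⟨e, he⟩ (g * g)).2 ⟨?_, ?_⟩
    · exact (show g * g * e * (g * g)⁻¹ = g * (g * e * g⁻¹) * g⁻¹ by group) ▸ (σ (σ ⟨e, he⟩)).2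
    · rw [← this]; congr 1; exact Subtype.ext (by show g * g * e * (g * g)⁻¹ = g * (g * e * g⁻¹) * g⁻¹; group)
  · right
    have hz3 : g * g * g * z = z * (g * g * g) := by
      rw [mul_assoc, hg, ← mul_assoc, mul_assoc g g z, hg, ← mul_assoc g z g, hg]
      simp only [mul_assoc]
    refine mem_of_trivial hE8 h hz3 fun e he => ?_
    have := congrArg e4.symm (hp (e4 ((⟨e, he⟩ : E) : E ⧸ Subgroup.center E)))
    simp only [Equiv.trans_apply, Equiv.symm_apply_apply, T, Equiv.ofBijective_apply, hτ] at this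
    refine (hback ⟨e, he⟩ (g * g * g)).2 ⟨?_, ?_⟩
    · exact (show g * g * g * e * (g * g * g)⁻¹ = g * (g * (g * e * g⁻¹) * g⁻¹) * g⁻¹ by group) ▸
        (σ (σ (σ ⟨e, he⟩))).2
    · rw [← this]; congr 1
      exact Subtype.ext (by show g * g * g * e * (g * g * g)⁻¹ = g * (g * (g * e * g⁻¹) * g⁻¹) * g⁻¹; group)

/-- In case `|E| = 8` squares of 2-elements of `C(z)` are commutators, provided `E = O₂(C(z))`. -/
theorem sq_mem_commutator (h : Setting z E)
    (hmax : ∀ K : Subgroup G, E ≤ K → K ≤ Subgroup.centralizer ({z} : Set G) →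
      (∀ g ∈ Subgroup.centralizer ({z} : Set G), ∀ k ∈ K, g * k * g⁻¹ ∈ K) → IsPGroup 2 K → K = E)
    {g : G} (hg : g ∈ Subgroup.centralizer ({z} : Set G)) (hg2 : ∃ k : ℕ, orderOf g = 2 ^ k) :
    g * g ∈ ⁅Subgroup.centralizer ({z} : Set G), Subgroup.centralizer ({z} : Set G)⁆ := by
  classical
  set H := Subgroup.centralizer ({z} : Set G) with hH
  have hEH : E ≤ H := fun e he => mem_centralizer_z.2 (h.le_cent e he)
  by_cases hA : ∀ k ∈ H, k * k ∈ E
  · have hHE : H = E := by
      refine hmax H hEH le_rfl (fun a ha b hb => mul_mem (mul_mem ha hb) (inv_mem ha)) ?_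
      intro k
      obtain ⟨n, hn⟩ := h.two ⟨_, hA k k.2⟩
      refine ⟨n + 1, Subtype.ext ?_⟩
      have := congrArg Subtype.val hn
      simp only [SubgroupClass.coe_pow, OneMemClass.coe_one] at this ⊢
      rwa [pow_succ', pow_mul, pow_two]
    rw [hHE]
    rcases h.sq g (hHE ▸ hg) with e | e <;> rw [e]
    · exact one_mem _
    · obtain ⟨a, ha, b, hb, hne⟩ := exists_noncommuting hE8 h
      have e1 := (h.comm a ha b hb).resolve_left fun e' => hne (by
        calc a * b = b * a * (a⁻¹ * b⁻¹ * a * b) := by group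
          _ = b * a := by rw [e', mul_one])
      rw [← e1, show a⁻¹ * b⁻¹ * a * b = ⁅a⁻¹, b⁻¹⁆ by rw [commutatorElement_def]; group]
      exact Subgroup.commutator_mem_commutator (inv_mem ha) (inv_mem hb)
  push Not at hA
  obtain ⟨c, hc, hc2⟩ := hA
  have hcz := mem_centralizer_z.1 hc
  have hc3 := (sq_or_cube_mem hE8 h hcz).resolve_left hc2
  have hcE : c ∉ E := fun e => hc2 (mul_mem e e)
  set D := ⁅H, H⁆ with hD
  have hcom : ∀ x ∈ E, c * x * c⁻¹ * x⁻¹ ∈ D ∧ c * x * c⁻¹ * x⁻¹ ∈ E := fun x hx =>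
    ⟨Subgroup.commutator_mem_commutator hc (hEH hx), mul_mem (h.normal c hcz x hx) (inv_mem hx)⟩
  obtain ⟨a, ha, hane1, hane2⟩ : ∃ a ∈ E, c * a * c⁻¹ ≠ a ∧ c * a * c⁻¹ ≠ a * z := by
    by_contra hcon
    push Not at hcon
    exact hcE (mem_of_trivial hE8 h hcz fun e he => or_iff_not_imp_left.2 (hcon e he))
  set k := c * a * c⁻¹ * a⁻¹ with hk
  obtain ⟨hkD, hkE⟩ := hcom a ha
  have hkne : k ≠ 1 ∧ k ≠ z := ⟨fun e => hane1 (mul_inv_eq_one.1 e),
    fun e => hane2 (by rw [mul_inv_eq_iff_eq_mul.1 e, h.le_cent a ha])⟩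
  obtain ⟨y, hy, hky⟩ : ∃ y ∈ E, k * y ≠ y * k := by
    by_contra hcon
    push Not at hcon
    rcases h.center k hkE hcon with e | e
    exacts [hkne.1 e, hkne.2 e]
  -- `k` and its image under `c` do not commute
  have hkk : k * (c * k * c⁻¹) ≠ (c * k * c⁻¹) * k := by
    intro hcomm
    -- the centralizer of `k` in `E` is `{1, z, k, k z}`
    have hcl : ∀ w ∈ E, k * w = w * k → w = 1 ∨ w = z ∨ w = k ∨ w = k * z := by
      intro w hw hkw
      by_contra hne
      push Not at hne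
      have h4 : E ⊓ Subgroup.centralizer ({k} : Set G) = E := by
        refine eq_of_five hE8 inf_le_left ?_
        have hsub : ({1, z, k, k * z, w} : Finset G) ⊆
            ((E ⊓ Subgroup.centralizer ({k} : Set G) : Subgroup G) : Set G).toFinite.toFinset := by
          intro x hx
          simp only [Finset.mem_insert, Finset.mem_singleton] at hx
          rw [Set.Finite.mem_toFinset, SetLike.mem_coe, Subgroup.mem_inf,
            Subgroup.mem_centralizer_singleton_iff]
          rcases hx with rfl | rfl | rfl | rfl | rfl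
          · exact ⟨E.one_mem, by rw [one_mul, mul_one]⟩
          · exact ⟨h.mem, (h.le_cent k hkE).symm⟩
          · exact ⟨hkE, rfl⟩
          · exact ⟨mul_mem hkE h.mem, by rw [mul_assoc, ← h.le_cent k hkE]⟩
          · exact ⟨hw, hkw.symm⟩
        have := Finset.card_le_card hsub
        rw [← Set.ncard_eq_toFinset_card, ← Nat.card_coe_set_eq] at this
        refine le_trans (le_of_eq ?_) this
        have p1 : k * z ≠ 1 := fun e => hkne.2 (by rw [mul_eq_one_iff_eq_inv.1 e, h.inv_z])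
        have p2 : k * z ≠ z := fun e => hkne.1 (mul_eq_right.1 e)
        have p3 : k * z ≠ k := fun e => h.ne_one (mul_eq_left.1 e)
        simp [h.ne_one.symm, hkne.1.symm, hkne.2.symm, p1.symm, p2.symm, p3.symm,
          hne.1.symm, hne.2.1.symm, hne.2.2.1.symm, hne.2.2.2.symm]
      exact hky (Subgroup.mem_centralizer_singleton_iff.1 (h4.ge hy).2).symm
    have hkc := hcl _ (h.normal c hcz k hkE) hcomm
    have hzc : c * z * c⁻¹ = z := by rw [hcz, mul_inv_cancel_right]
    -- so `c` fixes `k` modulo `z`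
    have hfix : c * k * c⁻¹ = k ∨ c * k * c⁻¹ = k * z := by
      rcases hkc with e | e | e | e
      · exact absurd (conj_eq_one_iff.1 e) hkne.1
      · exact absurd (mul_left_cancel (mul_right_cancel (e.trans hzc.symm))) hkne.2
      · exact Or.inl e
      · exact Or.inr e
    have hcube : (c * c * c) * a * (c * c * c)⁻¹ = a ∨ (c * c * c) * a * (c * c * c)⁻¹ = a * z := by
      rcases h.comm_z_left hc3 ha with e | e
      · exact Or.inl (by rw [e, mul_inv_cancel_right])
      · exact Or.inr (by rw [e, mul_assoc a _ z, h.le_cent _ hc3, ← mul_assoc, mul_inv_cancel_right])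
    -- `c³ a c⁻³ = w k³ a` with `w ∈ {1, z}`
    have h1 : c * a * c⁻¹ = k * a := by rw [hk]; group
    obtain ⟨w, hw, hw2⟩ : ∃ w, (w = 1 ∨ w = z) ∧ c * k * c⁻¹ = k * w := by
      rcases hfix with e | e
      · exact ⟨1, Or.inl rfl, by rw [e, mul_one]⟩
      · exact ⟨z, Or.inr rfl, e⟩
    have hwc : c * w * c⁻¹ = w ∧ k * w = w * k ∧ w * w = 1 := by
      rcases hw with rfl | rfl
      · exact ⟨by group, by group, one_mul 1⟩
      · exact ⟨hzc, h.le_cent k hkE, h.sq_one⟩
    have h2 : c * c * a * (c * c)⁻¹ = k * w * k * a := by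
      calc c * c * a * (c * c)⁻¹ = c * (c * a * c⁻¹) * c⁻¹ := by group
        _ = c * (k * a) * c⁻¹ := by rw [h1]
        _ = (c * k * c⁻¹) * (c * a * c⁻¹) := by group
        _ = k * w * k * a := by rw [hw2, h1]; group
    have h3 : c * c * c * a * (c * c * c)⁻¹ = k * (k * k) * w * a := by
      calc c * c * c * a * (c * c * c)⁻¹ = c * (c * c * a * (c * c)⁻¹) * c⁻¹ := by group
        _ = (c * k * c⁻¹) * (c * w * c⁻¹) * (c * k * c⁻¹) * (c * a * c⁻¹) := by rw [h2]; group
        _ = k * (w * w) * (k * w * (k * a)) := by rw [hw2, hwc.1, h1]; group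
        _ = k * (k * k) * w * a := by
          rw [hwc.2.2, mul_one, mul_assoc k w (k * a), ← mul_assoc w k a, ← hwc.2.1]
          simp only [mul_assoc]
    have hk2 : k * k = 1 ∨ k * k = z := h.sq k hkE
    have hkw2 : k * (k * k) * w = k ∨ k * (k * k) * w = k * z := by
      rcases hk2 with e | e <;> rcases hw with rfl | rfl <;> rw [e]
      · left; group
      · right; group
      · right; group
      · left; rw [mul_assoc, h.sq_one, mul_one]
    rw [h3] at hcube
    rcases hkw2 with e | e <;> rw [e] at hcube <;> rcases hcube with e' | e'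
    · exact hkne.1 (mul_eq_right.1 e')
    · exact hkne.2 (mul_right_cancel (e'.trans (h.le_cent a ha)))
    · exact hkne.2 (by rw [mul_eq_one_iff_eq_inv.1 (mul_eq_right.1 e'), h.inv_z])
    · exact hkne.1 (mul_eq_right.1 (mul_right_cancel (e'.trans (h.le_cent a ha))))
  -- hence `E ≤ D`
  have hk'D : c * k * c⁻¹ ∈ D ⊓ E := by
    refine ⟨?_, h.normal c hcz k hkE⟩
    have := mul_mem (hcom k hkE).1 hkD
    rwa [inv_mul_cancel_right] at this
  have hED : D ⊓ E = E := eq_of_five hE8 inf_le_right (five_le k _ ⟨hkD, hkE⟩ hk'D hkk)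
  rcases sq_or_cube_mem hE8 h (mem_centralizer_z.1 hg) with e | e
  · exact (hED.ge e).1
  · obtain ⟨n, hn⟩ := hg2
    have hco : Nat.Coprime 3 (orderOf g) := by rw [hn]; exact Nat.Coprime.pow_right _ (by norm_num)
    obtain ⟨m, hm⟩ := exists_pow_eq_self_of_coprime hco
    have hgE : g ∈ E := by
      rw [← hm]
      refine pow_mem ?_ m
      rwa [pow_succ, pow_two]
    exact (hED.ge (mul_mem hgE hgE)).1

end CfsgLib.LargeExtra
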